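import Cfsg.Agent.Lib.Fischer.Thm.Refl.Space
import Cfsg.Agent.Lib.Linear.OrthReflThree

/-!
# The reflection group of a quadratic form over the field with three elements

In the form `c • polarBilin Q` the vectors of norm `c` are the units and their reflections generate the group;
its centre consists of the elements fixing every unit up to sign.
-/

set_option autoImplicit false
set_option linter.unusedSectionVars false
set_option linter.unusedVariables false
set_option linter.unusedSimpArgs false

namespace Cfsg.Lib.Fischer.Thm.Refl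

open Cfsg Cfsg.Lib.Linear.Orth
open scoped Matrix

variable {n : ℕ} (Q : QuadraticForm (ZMod 3) (Fin n → ZMod 3)) (c : ZMod 3)

/-- The scaled polar form. -/
noncomputable def unitForm : LinearMap.BilinForm (ZMod 3) (Fin n → ZMod 3) := c • QuadraticMap.polarBilin Q

theorem unitForm_apply (u v : Fin n → ZMod 3) : unitForm Q c u v = c * QuadraticMap.polarBilin Q u v := rfl

/-- The action of a member of the reflection group. -/
def act {Q : QuadraticForm (ZMod 3) (Fin n → ZMod 3)} {c : ZMod 3} (g : ↥(reflectionSubgroup (⇑Q) c))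
    (z : Fin n → ZMod 3) : Fin n → ZMod 3 :=
  ((g : ↥(isometryGroup (ZMod 3) (⇑Q))) : GL (Fin n) (ZMod 3)).val *ᵥ z

variable {Q c}

theorem act_mul (g h : ↥(reflectionSubgroup (⇑Q) c)) (z : Fin n → ZMod 3) : act (g * h) z = act g (act h z) := by
  simp only [act, Subgroup.coe_mul]
  exact mul_act _ _ _

theorem act_one (z : Fin n → ZMod 3) : act (1 : ↥(reflectionSubgroup (⇑Q) c)) z = z := by simp [act]

theorem act_ext {g h : ↥(reflectionSubgroup (⇑Q) c)} (H : ∀ z, act g z = act h z) : g = h :=
  Subtype.ext (Subtype.ext (gl_ext H))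

theorem act_add (g : ↥(reflectionSubgroup (⇑Q) c)) (z w : Fin n → ZMod 3) : act g (z + w) = act g z + act g w :=
  Matrix.mulVec_add _ _ _

theorem act_sub (g : ↥(reflectionSubgroup (⇑Q) c)) (z w : Fin n → ZMod 3) : act g (z - w) = act g z - act g w :=
  Matrix.mulVec_sub _ _ _

theorem act_smul (g : ↥(reflectionSubgroup (⇑Q) c)) (t : ZMod 3) (z : Fin n → ZMod 3) :
    act g (t • z) = t • act g z :=
  Matrix.mulVec_smul _ _ _

theorem act_sim (g : ↥(reflectionSubgroup (⇑Q) c)) {a b : Fin n → ZMod 3} (h : Sim a b) :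
    Sim (act g a) (act g b) := by
  rcases h with rfl | rfl
  · exact Or.inl rfl
  · exact Or.inr (Matrix.mulVec_neg _ _)

variable (hQ : (QuadraticMap.polarBilin Q).Nondegenerate) (hc : c ≠ 0)

include hQ hc

theorem unitForm_form : Form (unitForm Q c) := by
  refine ⟨fun u v => by simp [unitForm_apply, QuadraticMap.polar_comm], fun v hv => hQ.1 v fun w => ?_⟩
  have := hv w
  rw [unitForm_apply, mul_eq_zero] at this
  exact this.resolve_left hc

theorem unit_iff (a : Fin n → ZMod 3) : IsUnitVec (unitForm Q c) a ↔ Q a = c := by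
  rw [IsUnitVec, unitForm_apply]
  have C := space_of_quadraticForm Q hQ
  rw [C.self]
  revert hc
  generalize Q a = t
  revert t c
  decide

theorem act_form (g : ↥(reflectionSubgroup (⇑Q) c)) (u v : Fin n → ZMod 3) :
    unitForm Q c (act g u) (act g v) = unitForm Q c u v := by
  rw [unitForm_apply, unitForm_apply]
  exact congrArg (c * ·) ((space_of_quadraticForm Q hQ).B_act (g : ↥(isometryGroup (ZMod 3) (⇑Q))).2 u v)

theorem rGL_act_unit {a : Fin n → ZMod 3} (ha : Q a = c) (z : Fin n → ZMod 3) :
    (rGL (⇑Q) a).val *ᵥ z = refl (unitForm Q c) a z := by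
  rw [rGL_act (space_of_quadraticForm Q hQ) (ha ▸ hc), refl_apply, unitForm_apply, ha,
    show c⁻¹ = c from inv_eq_of_mul_eq_one_left (z3_sq hc)]

theorem exists_member {a : Fin n → ZMod 3} (ha : IsUnitVec (unitForm Q c) a) :
    ∃ g : ↥(reflectionSubgroup (⇑Q) c),
      (g : ↥(isometryGroup (ZMod 3) (⇑Q))) ∈ reflectionsOfNorm (⇑Q) c ∧ ∀ z, act g z = refl (unitForm Q c) a z := by
  have C := space_of_quadraticForm Q hQ
  have ha' := (unit_iff hQ hc a).1 ha
  exact ⟨⟨rI C a (ha' ▸ hc), rI_mem_reflectionSubgroup C hc ha'⟩,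
    (mem_reflectionsOfNorm_iff C hc).2 ⟨a, ha', rI_val C (ha' ▸ hc)⟩, fun z => rGL_act_unit hQ hc ha' z⟩

theorem member_unit {g : ↥(reflectionSubgroup (⇑Q) c)}
    (h : (g : ↥(isometryGroup (ZMod 3) (⇑Q))) ∈ reflectionsOfNorm (⇑Q) c) :
    ∃ a, IsUnitVec (unitForm Q c) a ∧ ∀ z, act g z = refl (unitForm Q c) a z := by
  obtain ⟨a, ha, hg⟩ := (mem_reflectionsOfNorm_iff (space_of_quadraticForm Q hQ) hc).1 h
  refine ⟨a, (unit_iff hQ hc a).2 ha, fun z => ?_⟩
  rw [act, hg]
  exact rGL_act_unit hQ hc ha z

theorem act_conj {g r : ↥(reflectionSubgroup (⇑Q) c)} {a : Fin n → ZMod 3}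
    (h : ∀ z, act r z = refl (unitForm Q c) a z) (z : Fin n → ZMod 3) :
    act g (act r z) = refl (unitForm Q c) (act g a) (act g z) := by
  rw [h, refl_apply, refl_apply, act_form hQ hc, act_sub, act_smul]

theorem act_unit (g : ↥(reflectionSubgroup (⇑Q) c)) {a : Fin n → ZMod 3} (ha : IsUnitVec (unitForm Q c) a) :
    IsUnitVec (unitForm Q c) (act g a) :=
  (act_form hQ hc g a a).trans ha

theorem refl_center_iff (g : ↥(reflectionSubgroup (⇑Q) c)) :
    g ∈ Subgroup.center ↥(reflectionSubgroup (⇑Q) c) ↔
      ∀ a, IsUnitVec (unitForm Q c) a → Sim (act g a) a := by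
  have hB := unitForm_form hQ hc
  constructor
  · intro hg a ha
    obtain ⟨r, -, hr⟩ := exists_member hQ hc ha
    have hga := act_unit hQ hc g ha
    have e : refl (unitForm Q c) a (act g a) = -act g a := by
      rw [← hr, ← act_mul, Subgroup.mem_center_iff.1 hg r, act_mul, act_conj hQ hc hr, refl_self hga]
    refine ((orth_of_refl_sim hB ha (Or.inr e)).resolve_left fun h => unit_ne_zero hB hga ?_).symm
    rw [refl_fix h] at e
    exact eq_zero_of_eq_neg e
  · intro h
    rw [Subgroup.mem_center_iff]
    intro k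
    suffices hk : k ∈ Subgroup.centralizer ({g} : Set ↥(reflectionSubgroup (⇑Q) c)) from
      Subgroup.mem_centralizer_singleton_iff.1 hk
    have hle : Subgroup.closure {r : ↥(reflectionSubgroup (⇑Q) c) |
        (r : ↥(isometryGroup (ZMod 3) (⇑Q))) ∈ reflectionsOfNorm (⇑Q) c} ≤
          Subgroup.centralizer ({g} : Set ↥(reflectionSubgroup (⇑Q) c)) := by
      rw [Subgroup.closure_le]
      intro r hr
      obtain ⟨a, ha, hra⟩ := member_unit hQ hc hr
      refine Subgroup.mem_centralizer_singleton_iff.2 (act_ext fun z => ?_)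
      rw [act_mul, act_mul, act_conj hQ hc hra, refl_sim (h a ha), hra]
    have hT : Subgroup.closure {r : ↥(reflectionSubgroup (⇑Q) c) |
        (r : ↥(isometryGroup (ZMod 3) (⇑Q))) ∈ reflectionsOfNorm (⇑Q) c} = ⊤ :=
      Subgroup.closure_closure_coe_preimage
    exact hle (hT ▸ Subgroup.mem_top k)

/-- Reflections agreeing modulo the centre come from the same unit. -/
theorem sim_of_mk_eq (hn : 5 ≤ n) {g g' : ↥(reflectionSubgroup (⇑Q) c)} {a b : Fin n → ZMod 3}
    (ha : IsUnitVec (unitForm Q c) a) (hb : IsUnitVec (unitForm Q c) b)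
    (hg : ∀ z, act g z = refl (unitForm Q c) a z) (hg' : ∀ z, act g' z = refl (unitForm Q c) b z)
    (h : (QuotientGroup.mk g : ↥(reflectionSubgroup (⇑Q) c) ⧸ Subgroup.center ↥(reflectionSubgroup (⇑Q) c)) =
      QuotientGroup.mk g') : Sim a b := by
  by_contra hne
  set B := unitForm Q c with hBdef
  have hB : Form B := unitForm_form hQ hc
  have hfin : Module.finrank (ZMod 3) (Fin n → ZMod 3) = n := Module.finrank_fin_fun _
  obtain ⟨x, hx, hax, hbx⟩ : ∃ x, IsUnitVec B x ∧ B a x = 0 ∧ B b x = 0 := by
    by_cases h0 : B a b = 0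
    · obtain ⟨y, hy, hyy⟩ := exists_norm_perp hB ![a, b] (by omega)
        (fun i => by fin_cases i <;> simp [(show B a a = 2 from ha), (show B b b = 2 from hb)] <;> decide)
        (fun i j hij => by
          fin_cases i <;> fin_cases j <;> simp at hij ⊢
          · exact h0
          · rw [hB.symm]; exact h0) (t := 2) (by decide)
      exact ⟨y, hyy, by simpa using hy 0, by simpa using hy 1⟩
    · have hf : IsSing B (b + B a b • a) := by
        refine ⟨fun e => hne ?_, ?_⟩
        · refine (sim_smul h0 a).symm.trans ?_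
          rw [eq_neg_of_add_eq_zero_right e]
          exact Or.inr rfl
        · simp only [map_add, map_smul, LinearMap.add_apply, LinearMap.smul_apply, (show B a a = 2 from ha),
            (show B b b = 2 from hb), hB.symm b a, smul_eq_mul]
          revert h0
          generalize B a b = t
          revert t
          decide
      obtain ⟨y, hy, hfy, hay⟩ := exists_unit_perp_sing_unit hB (by omega) hf ha
      refine ⟨y, hy, hay, ?_⟩
      rwa [map_add, map_smul, LinearMap.add_apply, LinearMap.smul_apply, hay, smul_zero, add_zero] at hfy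
  set z := g⁻¹ * g' with hz
  have hzc : z ∈ Subgroup.center ↥(reflectionSubgroup (⇑Q) c) := QuotientGroup.eq.1 h
  have hzs := (refl_center_iff hQ hc z).1 hzc
  have hzx : act z x = x := by
    have e1 : act g x = x := by rw [hg, refl_fix hax]
    have e2 : act g⁻¹ x = x := by
      conv_lhs => rw [← e1]
      rw [← act_mul, inv_mul_cancel, act_one]
    rw [hz, act_mul, hg', refl_fix hbx, e2]
  -- the sign of `z` does not vary
  have hstep : ∀ p q, IsUnitVec B p → IsUnitVec B q → B p q ≠ 0 → act z p = p → act z q = q := by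
    intro p q hp hq hpq hzp
    refine (hzs q hq).resolve_right fun hzq => hpq ?_
    have := act_form hQ hc z p q
    rw [hzp, hzq, ← hBdef, map_neg] at this
    revert this
    generalize B p q = t
    revert t
    decide
  have hfix : ∀ p, IsUnitVec B p → act z p = p := by
    intro p hp
    by_cases h0 : B x p = 0
    · obtain ⟨l, hl, h1, h2⟩ := exists_link hB (by omega) hx hp h0
      exact hstep l p hl hp (by rw [hB.symm]; exact h2) (hstep x l hx hl h1 hzx)
    · exact hstep x p hx hp h0 hzx
  have e := hfix b hb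
  rw [hz, act_mul, hg', refl_self hb] at e
  have e2 : refl B a b = -b := by
    rw [← hg]
    conv_lhs => rw [← e]
    rw [← act_mul, mul_inv_cancel, act_one]
  refine hne ((orth_of_refl_sim hB ha (Or.inr e2)).resolve_left fun h => unit_ne_zero hB hb ?_)
  rw [refl_fix h] at e2
  exact eq_zero_of_eq_neg e2

end Cfsg.Lib.Fischer.Thm.Refl
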