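import Cfsg.Agent.Lib.Fischer.Thm.Refl.Sign

/-!
# The chart of the whole class

`x` is `(1, 0)`, a neighbour `v` is `(0, π v)` and any other member `d` is `(1, σ d)`.
-/

set_option autoImplicit false
set_option linter.unusedSectionVars false
set_option linter.unusedSimpArgs false
set_option linter.unusedVariables false

namespace Cfsg.Lib.Fischer.Thm.Refl

open Cfsg.Lib.Fischer

variable {V : Type*} [AddCommGroup V] [Module (ZMod 3) V] [Module.Finite (ZMod 3) V]
  {B : LinearMap.BilinForm (ZMod 3) V} {G : Type*} [Group G] [Finite G] {D : Set G} {x : G} {π : G → V}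
  (C : Ctx D x B π) {σ : G → V} (S : Signed C σ)

include C S

theorem Signed.exists_common {d : G} (hd : d ∈ off D x) : ∃ y ∈ perp D x, Commute d y := by
  obtain ⟨a, ha, hau⟩ := exists_unit_perp C.form (by have := C.dim; omega) (S.sing d hd)
  obtain ⟨y, hy, hya⟩ := C.chart.surj a ha
  exact ⟨y, hy, (S.comm d hd y hy).2 (by rw [hya.orth, C.form.symm]; exact hau)⟩

/-- In a chart the vectors are those chosen, up to one sign. -/
theorem Signed.signs {d d' y : G} (hd : d ∈ off D x) (hd' : d' ∈ off D x) (hy : y ∈ perp D x) (hdy : Commute d y)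
    (hd'y : Commute d' y) (h : B (σ d) (σ d') ≠ 0) :
    ∃ η : ZMod 3, η ≠ 0 ∧ uy C y d = η • σ d ∧ uy C y d' = η • σ d' := by
  obtain ⟨η, η', h1, h2, e, e', hc⟩ := S.toLift.signs C hd hd' hy hdy hd'y
  have h3 := (S.edge d hd d' hd' h).symm.trans (hc h)
  refine ⟨η, h1, e, ?_⟩
  rw [e']
  congr 1
  clear hc e e'
  revert h h3 h1 h2
  generalize B (σ d) (σ d') = t
  revert η η' t
  decide

theorem Signed.fibre {d d' : G} (hd : d ∈ off D x) (hd' : d' ∈ off D x) (h : Sim (σ d') (σ d)) :
    d' = d ∨ d' = cj x d := by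
  obtain ⟨y, hy, hdy⟩ := S.exists_common C hd
  have hd'y : Commute d' y := (S.comm d' hd' y hy).2 (by
    rw [C.form.symm, h.orth, C.form.symm]; exact (S.comm d hd y hy).1 hdy)
  exact C.uy_fibre hy hd (C.perp_of_common hy hd hdy) hd' (C.perp_of_common hy hd' hd'y)
    (((S.sim d' hd' y hy hd'y).trans h).trans (S.sim d hd y hy hdy).symm)

theorem Signed.exists_meet {u : V} (hu : IsSing B u) : ∃ d ∈ off D x, B u (σ d) ≠ 0 := by
  obtain ⟨z, hz, h1, -⟩ := exists_sing_meet_two C.form (by have := C.dim; omega) hu hu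
  obtain ⟨d, hd, hdz⟩ := S.toLift.exists_off C hz
  exact ⟨d, hd, fun e => h1 (by rw [C.form.symm] at e ⊢; exact hdz.orth.1 e)⟩

theorem Signed.cjx {d : G} (hd : d ∈ off D x) : σ (cj x d) = -σ d := by
  have hd₁ := C.cjx_off hd
  obtain ⟨y, hy, hdy⟩ := S.exists_common C hd
  have hdy' := C.perp_of_common hy hd hdy
  have hd₁y : Commute (cj x d) y := (C.cjx_perp hy hdy').2.2.symm
  have hs : Sim (σ (cj x d)) (σ d) := by
    refine (S.sim _ hd₁ y hy hd₁y).symm.trans ?_
    rw [C.uy_cjx hy hd hdy']
    exact (show Sim (-uy C y d) (uy C y d) from Or.inr rfl).trans (S.sim d hd y hy hdy)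
  refine hs.resolve_left fun heq => ?_
  obtain ⟨d₂, hd₂, hne⟩ := S.exists_meet C (S.sing d hd)
  obtain ⟨y', hy', hc1, hc2⟩ := S.toLift.common C hd hd₂ hne
  have hdy₂ := C.perp_of_common hy' hd hc1
  obtain ⟨η, hη, e1, e2⟩ := S.signs C hd hd₂ hy' hc1 hc2 hne
  obtain ⟨η', hη', e1', e2'⟩ :=
    S.signs C hd₁ hd₂ hy' (C.cjx_perp hy' hdy₂).2.2.symm hc2 (by rw [heq]; exact hne)
  obtain rfl : η = η' := smul_left_injective (ZMod 3) (S.sing d₂ hd₂).1 (e2.symm.trans e2')
  rw [heq, C.uy_cjx hy' hd hdy₂, e1] at e1'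
  exact smul_ne_zero hη (S.sing d hd).1 (eq_zero_of_eq_neg e1'.symm)

theorem Signed.equiv {v d : G} (hv : v ∈ perp D x) (hd : d ∈ off D x) :
    σ (cj v d) = refl B (π v) (σ d) := by
  have hB := C.form
  have hu := C.unit hv
  have hsim : ∀ e ∈ off D x, Sim (σ (cj v e)) (refl B (π v) (σ e)) := fun e he => by
    obtain ⟨y, hy, hey⟩ := S.exists_common C he
    obtain ⟨hy', hys⟩ := C.chart.op v hv y hy
    obtain ⟨h1, h2⟩ := C.uy_equiv hy he (C.perp_of_common hy he hey) hv
    exact ((S.sim _ (C.cj_off hv he) _ hy' h1.2.2.symm).symm.trans h2).trans ((S.sim e he y hy hey).map _)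
  have hstep : ∀ e ∈ off D x, ∀ e' ∈ off D x, B (σ e) (σ e') ≠ 0 →
      σ (cj v e) = refl B (π v) (σ e) → σ (cj v e') = refl B (π v) (σ e') := by
    intro e he e' he' hne h
    refine (hsim e' he').resolve_right fun h' => ?_
    have hne' : B (σ (cj v e)) (σ (cj v e')) ≠ 0 := by
      rw [h, h', map_neg, refl_form hB hu]; exact neg_ne_zero.2 hne
    have e1 := S.edge _ (C.cj_off hv he) _ (C.cj_off hv he') hne'
    rw [commute_cj C.hD hv.1, S.edge e he e' he' hne, h, h', map_neg, refl_form hB hu] at e1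
    revert hne e1
    generalize B (σ e) (σ e') = t
    revert t
    decide
  obtain ⟨z₁, hz₁, hn₁⟩ := exists_norm_perp hB ![π v] (by have := C.dim; omega)
    (fun i => by fin_cases i; simp [(show B (π v) (π v) = 2 from hu)]; decide)
    (fun i j hij => absurd (Subsingleton.elim i j) hij) (t := 1) one_ne_zero
  have h0₁ : B (π v) z₁ = 0 := by simpa using hz₁ 0
  obtain ⟨z₂, hz₂, hn₂⟩ := exists_norm_perp hB ![π v, z₁] (by have := C.dim; omega)
    (fun i => by fin_cases i <;> simp [(show B (π v) (π v) = 2 from hu), hn₁]; decide)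
    (fun i j hij => by
      fin_cases i <;> fin_cases j <;> simp at hij ⊢
      · exact h0₁
      · rw [hB.symm]; exact h0₁) (t := 2) (by decide)
  have h0₂ : B (π v) z₂ = 0 := by simpa using hz₂ 0
  have h12 : B z₁ z₂ = 0 := by simpa using hz₂ 1
  have hsing : IsSing B (z₁ + z₂) := isSing_of hB (u := z₁)
    (by rw [map_add, hn₁, h12, add_zero]; exact one_ne_zero)
    (by simp only [map_add, LinearMap.add_apply, hn₁, hn₂, h12, hB.symm z₂ z₁]; decide)
  obtain ⟨d₀, hd₀, hs₀⟩ := S.toLift.exists_off C hsing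
  have hperp₀ : B (π v) (σ d₀) = 0 := by
    rw [hB.symm, hs₀.orth, hB.symm, map_add, h0₁, h0₂, add_zero]
  have hfix : σ (cj v d₀) = refl B (π v) (σ d₀) := by
    rw [cj_of_commute C.hD hv.1 ((S.comm d₀ hd₀ v hv).2 hperp₀).symm, refl_fix hperp₀]
  obtain ⟨p, hp, h1, h2⟩ : ∃ p ∈ off D x, B (σ d₀) (σ p) ≠ 0 ∧ B (σ d) (σ p) ≠ 0 := by
    obtain ⟨z, hz, h1, h2⟩ := exists_sing_meet_two hB (by have := C.dim; omega) (S.sing d₀ hd₀) (S.sing d hd)
    obtain ⟨p, hp, hpz⟩ := S.toLift.exists_off C hz
    exact ⟨p, hp, fun e => h1 (by rw [hB.symm] at e ⊢; exact hpz.orth.1 e),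
      fun e => h2 (by rw [hB.symm] at e ⊢; exact hpz.orth.1 e)⟩
  exact hstep p hp d hd (by rwa [hB.symm]) (hstep d₀ hd₀ p hp h1 hfix)

theorem Signed.surj {u : V} (hu : IsSing B u) : ∃ d ∈ off D x, σ d = u := by
  obtain ⟨d, hd, h | h⟩ := S.toLift.exists_off C hu
  · exact ⟨d, hd, h⟩
  · exact ⟨cj x d, C.cjx_off hd, by rw [S.cjx C hd, h, neg_neg]⟩

omit S

open Classical in
/-- The point of a member. -/
noncomputable def point (C : Ctx D x B π) (σ : G → V) (d : G) : ZMod 3 × V :=
  if d = x then (1, 0) else if Commute x d then (0, π d) else (1, σ d)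

theorem point_self : point C σ x = ((1 : ZMod 3), (0 : V)) := if_pos rfl

theorem point_perp {v : G} (hv : v ∈ perp D x) : point C σ v = ((0 : ZMod 3), π v) := by
  rw [point, if_neg hv.2.1, if_pos hv.2.2]

theorem point_off {d : G} (hd : d ∈ off D x) : point C σ d = ((1 : ZMod 3), σ d) := by
  rw [point, if_neg (C.off_ne hd), if_neg hd.2]

omit C in
theorem mem_cases (D : Set G) (x : G) {d : G} (hd : d ∈ D) : d = x ∨ d ∈ perp D x ∨ d ∈ off D x := by
  by_cases h : d = x
  · exact Or.inl h
  · by_cases h' : Commute x d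
    · exact Or.inr (Or.inl ⟨hd, h, h'⟩)
    · exact Or.inr (Or.inr ⟨hd, h'⟩)

include S

theorem Signed.point_unit {d : G} (hd : d ∈ D) : IsUnitVec (bigForm B) (point C σ d) := by
  rcases mem_cases D x hd with rfl | h | h
  · rw [point_self C, IsUnitVec, bigForm_apply, map_zero, add_zero, mul_one, mul_one]
  · rw [point_perp C h, IsUnitVec, bigForm_apply, mul_zero, zero_add]; exact C.unit h
  · rw [point_off C h, IsUnitVec, bigForm_apply, (S.sing d h).2, add_zero, mul_one, mul_one]

/-- The conjugation of `b` by `a` is a reflection in the chart. -/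
def Good (C : Ctx D x B π) (σ : G → V) (a b : G) : Prop :=
  Sim (point C σ (cj a b)) (refl (bigForm B) (point C σ a) (point C σ b))

omit S

theorem refl_base (t : ZMod 3) (w : V) :
    refl (bigForm B) ((1 : ZMod 3), (0 : V)) (t, w) = (-t, w) := by
  rw [refl_apply, bigForm_apply, map_zero, LinearMap.zero_apply]
  refine Prod.ext ?_ ?_
  · show t - (2 * 1 * t + 0) * 1 = -t
    have key : ∀ t : ZMod 3, t - (2 * 1 * t + 0) * 1 = -t := by decide
    exact key t
  · show w - (2 * (1 : ZMod 3) * t + 0) • (0 : V) = w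
    rw [smul_zero, sub_zero]

theorem refl_low (a w : V) (t : ZMod 3) :
    refl (bigForm B) ((0 : ZMod 3), a) (t, w) = (t, refl B a w) := by
  rw [refl_apply, refl_apply, bigForm_apply]
  refine Prod.ext ?_ ?_
  · show t - (2 * 0 * t + B a w) * 0 = t
    rw [mul_zero, sub_zero]
  · show w - (2 * (0 : ZMod 3) * t + B a w) • a = w - B a w • a
    rw [mul_zero, zero_mul, zero_add]

theorem refl_high (u w : V) (t : ZMod 3) :
    refl (bigForm B) ((1 : ZMod 3), u) (t, w) = (t - (2 * t + B u w), w - (2 * t + B u w) • u) := by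
  rw [refl_apply, bigForm_apply]
  refine Prod.ext ?_ ?_
  · show t - (2 * 1 * t + B u w) * 1 = t - (2 * t + B u w)
    rw [mul_one, mul_one]
  · show w - (2 * (1 : ZMod 3) * t + B u w) • u = w - (2 * t + B u w) • u
    rw [mul_one]

include S

theorem Signed.good_perp {v b : G} (hv : v ∈ perp D x) (hb : b ∈ D) : Good C σ v b := by
  rw [Good, point_perp C hv]
  rcases mem_cases D x hb with rfl | h | h
  · rw [cj_of_commute C.hD hv.1 hv.2.2.symm, point_self C, refl_low C, map_zero]
    exact Sim.rfl' _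
  · obtain ⟨h1, h2⟩ := C.chart.op v hv b h
    rw [point_perp C h1, point_perp C h, refl_low C]
    rcases h2 with e | e
    · exact Or.inl (by rw [e])
    · exact Or.inr (by rw [e, Prod.neg_mk, neg_zero])
  · rw [point_off C (C.cj_off hv h), point_off C h, refl_low C, S.equiv C hv h]
    exact Sim.rfl' _

theorem Signed.good_base {b : G} (hb : b ∈ D) : Good C σ x b := by
  rw [Good, point_self C]
  rcases mem_cases D x hb with rfl | h | h
  · rw [cj_self C.hD C.hx, point_self C, refl_base C]
    exact Or.inr (by rw [Prod.neg_mk, neg_neg, neg_zero])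
  · rw [cj_of_commute C.hD C.hx h.2.2, point_perp C h, refl_base C, neg_zero]
    exact Sim.rfl' _
  · rw [point_off C (C.cjx_off h), point_off C h, refl_base C, S.cjx C h]
    exact Or.inr (by rw [Prod.neg_mk, neg_neg])

theorem Signed.good_off_perp {d v : G} (hd : d ∈ off D x) (hv : v ∈ perp D x) : Good C σ d v := by
  rw [Good, point_off C hd, point_perp C hv, refl_high C, mul_zero, zero_add]
  by_cases h0 : B (σ d) (π v) = 0
  · have hc : Commute d v := (S.comm d hd v hv).2 (by rw [C.form.symm]; exact h0)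
    rw [cj_of_commute C.hD hd.1 hc, point_perp C hv, h0, sub_zero, zero_smul, sub_zero]
    exact Sim.rfl' _
  · have hc : ¬ Commute d v := fun h => h0 (by rw [C.form.symm]; exact (S.comm d hd v hv).1 h)
    rw [braid C.hD hd.1 hv.1 hc, point_off C (C.cj_off hv hd), S.equiv C hv hd, refl_apply,
      C.form.symm (π v) (σ d)]
    refine ((sim_smul (neg_ne_zero.2 h0) _).symm.trans ?_)
    refine Or.inl (Prod.ext ?_ ?_)
    · show -B (σ d) (π v) * 1 = 0 - B (σ d) (π v)
      rw [mul_one, zero_sub]
    · show -B (σ d) (π v) • (σ d - B (σ d) (π v) • π v) = π v - B (σ d) (π v) • σ d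
      rw [smul_sub, smul_smul, neg_mul, z3_sq h0, neg_one_smul, sub_neg_eq_add, neg_smul, neg_add_eq_sub]

theorem Signed.good_off {d b : G} (hd : d ∈ off D x) (hb : b ∈ D) : Good C σ d b := by
  have hD := C.hD
  have hB := C.form
  rcases mem_cases D x hb with rfl | h | hd'
  · rw [Good, point_off C hd, point_self C, refl_high C, map_zero,
      braid hD hd.1 C.hx (fun h => hd.2 h.symm), point_off C (C.cjx_off hd), S.cjx C hd]
    refine Or.inr (Prod.ext ?_ ?_)
    · show (1 : ZMod 3) = -(1 - (2 * 1 + 0))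
      decide
    · show -σ d = -(0 - (2 * (1 : ZMod 3) + 0) • σ d)
      rw [show (2 * (1 : ZMod 3) + 0) = -1 by decide, neg_one_smul, zero_sub, neg_neg]
  · exact S.good_off_perp C hd h
  have hnear : ∀ e ∈ off D x, B (σ d) (σ e) ≠ 0 → Good C σ d e := by
    intro e he hne
    rw [Good, point_off C hd, point_off C he, refl_high C]
    rcases z3_ne hne with h1 | h1
    · rw [cj_of_commute hD hd.1 ((S.edge d hd e he hne).2 h1), point_off C he, h1,
        show (2 * (1 : ZMod 3) + 1) = 0 by decide, sub_zero, zero_smul, sub_zero]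
      exact Sim.rfl' _
    · obtain ⟨y, hy, hc1, hc2⟩ := S.toLift.common C hd he hne
      obtain ⟨η, hη, e1, e2⟩ := S.signs C hd he hy hc1 hc2 hne
      obtain ⟨hm, hs⟩ := C.uy_third hy hd (C.perp_of_common hy hd hc1) he (C.perp_of_common hy he hc2) (by
        rw [e1, e2, map_smul, map_smul, LinearMap.smul_apply, smul_eq_mul, smul_eq_mul, ← mul_assoc, z3_sq hη,
          one_mul, h1])
      rw [e1, e2, ← smul_sub] at hs
      have hs' := (hs.trans (sim_smul hη _)).map (LinearMap.inr (ZMod 3) (ZMod 3) V)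
      rw [point_perp C hm, h1, show (2 * (1 : ZMod 3) + -1) = 1 by decide, sub_self, one_smul]
      exact hs'
  by_cases h0 : B (σ d) (σ b) = 0
  swap
  · exact hnear b hd' h0
  by_cases hs : Sim (σ b) (σ d)
  · rcases S.fibre C hd hd' hs with rfl | rfl
    · rw [Good, cj_self hD hd.1, refl_self (S.point_unit C hd.1)]
      exact Or.inr (neg_neg _).symm
    · rw [Good, ← braid hD hd.1 C.hx (fun h => hd.2 h.symm), cj_cj hD hd.1, point_self C,
        braid hD hd.1 C.hx (fun h => hd.2 h.symm), point_off C hd, point_off C (C.cjx_off hd), refl_high C,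
        S.cjx C hd, map_neg, (S.sing d hd).2, neg_zero]
      refine Or.inr (Prod.ext ?_ ?_)
      · show (1 : ZMod 3) = -(1 - (2 * 1 + 0))
        decide
      · show (0 : V) = -(-σ d - (2 * (1 : ZMod 3) + 0) • σ d)
        rw [show (2 * (1 : ZMod 3) + 0) = -1 by decide, neg_one_smul, sub_self, neg_zero]
  · obtain ⟨z, hz⟩ := exists_val hB ![σ d, σ b]
      (indep_pair (S.sing d hd).1 (S.sing b hd').1 fun e => hs e.symm) ![1, 1]
    have z0 : B (σ d) z = 1 := by simpa using hz 0
    have z1 : B (σ b) z = 1 := by simpa using hz 1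
    set k := 1 + B z z with hk
    have hunit : IsUnitVec B (z + k • σ d) := by
      simp only [IsUnitVec, map_add, map_smul, LinearMap.add_apply, LinearMap.smul_apply, (S.sing d hd).2,
        hB.symm z (σ d), z0, smul_eq_mul, mul_zero, mul_one, add_zero, hk]
      have key : ∀ p : ZMod 3, p + (1 + p) + (1 + p) = 2 := by decide
      exact key _
    obtain ⟨v, hv, hva⟩ := C.chart.surj _ hunit
    set a := z + k • σ d with ha
    have hau : B a (σ d) = 1 := by
      rw [hB.symm, ha, map_add, map_smul, z0, (S.sing d hd).2, smul_zero, add_zero]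
    have hab : B a (σ b) = 1 := by
      rw [hB.symm, ha, map_add, map_smul, z1, hB.symm (σ b) (σ d), h0, smul_zero, add_zero]
    have hvu : B (π v) (σ d) ≠ 0 := fun e => by
      rw [hva.orth, hau] at e; exact one_ne_zero e
    have hdv : ¬ Commute d v := fun h => hvu ((S.comm d hd v hv).1 h)
    set e := cj v b with he_def
    have he : e ∈ off D x := C.cj_off hv hd'
    have hσe : σ e = σ b - a := by
      rw [he_def, S.equiv C hv hd', refl_sim hva, refl_apply, hab, one_smul]
    have hde : B (σ d) (σ e) = -1 := by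
      rw [hσe, map_sub, h0, hB.symm (σ d) a, hau, zero_sub]
    have g1 := hnear e he (by rw [hde]; exact neg_ne_zero.2 one_ne_zero)
    obtain ⟨y, hy, hc1, hc2⟩ := S.toLift.common C hd he (by rw [hde]; exact neg_ne_zero.2 one_ne_zero)
    obtain ⟨η, hη, e1, e2⟩ := S.signs C hd he hy hc1 hc2 (by rw [hde]; exact neg_ne_zero.2 one_ne_zero)
    obtain ⟨hp, -⟩ := C.uy_third hy hd (C.perp_of_common hy hd hc1) he (C.perp_of_common hy he hc2) (by
      rw [e1, e2, map_smul, map_smul, LinearMap.smul_apply, smul_eq_mul, smul_eq_mul, ← mul_assoc, z3_sq hη,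
        one_mul, hde])
    have hq := (C.chart.op v hv _ hp).1
    have hbe : b = cj v e := (cj_cj hD hv.1 b).symm
    have hgrp : cj d b = cj v (cj d (cj v (cj d e))) := by
      conv_rhs => rw [cj_cj_dist hD hv.1, cj_cj hD hv.1, braid hD hv.1 hd.1 (fun h => hdv h.symm),
        ← cj_cj_dist hD hd.1]
      rw [← hbe]
    rw [Good, hgrp]
    have g2 := S.good_perp C hv hp.1
    have g3 := S.good_off_perp C hd hq
    have g4 := S.good_perp C hv (cj_mem hD hd.1 hq.1)
    have g5 := S.good_perp C hv he.1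
    rw [Good, ← hbe] at g5
    refine (g4.trans ((g3.trans ((g2.trans (g1.map _)).map _)).map _)).trans ?_
    refine (Sim.trans ?_ ((g5.map (refl (bigForm B) (point C σ d))).symm))
    have hbig := bigForm_form C.form
    have hne : bigForm B (point C σ v) (point C σ d) ≠ 0 := by
      rw [point_perp C hv, point_off C hd, bigForm_apply, mul_zero, zero_mul, zero_add]; exact hvu
    rw [refl_braid_op hbig (S.point_unit C hv.1) (S.point_unit C hd.1) hne,
      refl_refl (S.point_unit C hd.1)]
    exact Sim.rfl' _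

/-- The chart of the whole class. -/
theorem Signed.chart : Chart D (bigForm B) (point C σ) := by
  refine ⟨fun a ha => S.point_unit C ha, fun a ha b hb h => ?_, fun z hz => ?_, fun a ha b hb => ⟨cj_mem C.hD ha hb, ?_⟩⟩
  · have hfst : ∀ p q : ZMod 3, ∀ w w' : V, Sim (p, w) (q, w') → p = q ∨ p = -q := fun p q w w' e =>
      e.imp (fun e => congrArg Prod.fst e) fun e => congrArg Prod.fst e
    have hsnd : ∀ p q : ZMod 3, ∀ w w' : V, Sim (p, w) (q, w') → Sim w w' := fun p q w w' e =>
      e.imp (fun e => congrArg Prod.snd e) fun e => congrArg Prod.snd e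
    rcases mem_cases D x ha with e1 | h1 | h1 <;> rcases mem_cases D x hb with e2 | h2 | h2 <;> (try rw [e1] at h ⊢) <;> (try rw [e2] at h ⊢)
    · rw [point_self C, point_perp C h2] at h
      exact absurd (hfst _ _ _ _ h) (by decide)
    · rw [point_self C, point_off C h2] at h
      exact absurd (hsnd _ _ _ _ h) (by
        rintro (e | e)
        · exact (S.sing b h2).1 e.symm
        · exact (S.sing b h2).1 (neg_eq_zero.1 e.symm))
    · rw [point_self C, point_perp C h1] at h
      exact absurd (hfst _ _ _ _ h) (by decide)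
    · rw [point_perp C h1, point_perp C h2] at h
      exact C.chart.inj a h1 b h2 (hsnd _ _ _ _ h)
    · rw [point_perp C h1, point_off C h2] at h
      exact absurd (hfst _ _ _ _ h) (by decide)
    · rw [point_self C, point_off C h1] at h
      exact absurd (hsnd _ _ _ _ h) (by
        rintro (e | e)
        · exact (S.sing a h1).1 e
        · exact (S.sing a h1).1 (e.trans neg_zero))
    · rw [point_off C h1, point_perp C h2] at h
      exact absurd (hfst _ _ _ _ h) (by decide)
    · rw [point_off C h1, point_off C h2] at h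
      rcases S.fibre C h2 h1 (hsnd _ _ _ _ h) with e | e
      · exact e
      · exfalso
        rw [e, S.cjx C h2] at h
        rcases h with h | h
        · exact (S.sing b h2).1 (eq_zero_of_eq_neg (Prod.ext_iff.1 h).2.symm)
        · exact absurd (Prod.ext_iff.1 h).1 (show ¬ ((1 : ZMod 3) = -1) by decide)
  · obtain ⟨t, w⟩ := z
    rw [IsUnitVec, bigForm_apply] at hz
    by_cases ht : t = 0
    · subst ht
      simp only [mul_zero, zero_add] at hz
      obtain ⟨v, hv, hvw⟩ := C.chart.surj w hz
      refine ⟨v, hv.1, ?_⟩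
      rw [point_perp C hv]
      exact hvw.map (LinearMap.inr (ZMod 3) (ZMod 3) V)
    · have hww : B w w = 0 := by
        rw [mul_assoc, z3_sq ht, mul_one] at hz
        exact add_eq_left.1 hz
      have hsc : Sim ((1 : ZMod 3), t • w) (t, w) := by
        have e : ((1 : ZMod 3), t • w) = t • (t, w) := Prod.ext (z3_sq ht).symm rfl
        rw [e]; exact sim_smul ht _
      by_cases hw : w = 0
      · refine ⟨x, C.hx, ?_⟩
        rw [point_self C]
        simpa [hw] using hsc
      · have hu : IsSing B (t • w) :=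
          ⟨smul_ne_zero ht hw, by rw [map_smul, map_smul, LinearMap.smul_apply, hww, smul_zero, smul_zero]⟩
        obtain ⟨d, hd, e⟩ := S.surj C hu
        refine ⟨d, hd.1, ?_⟩
        rw [point_off C hd, e]
        exact hsc
  · rcases mem_cases D x ha with rfl | h | h
    · exact S.good_base C hb
    · exact S.good_perp C h hb
    · exact S.good_off C h hb

omit S

/-- The class is charted by the units of `ZMod 3 × V`. -/
theorem Ctx.exists_chart : ∃ f : G → ZMod 3 × V, Chart D (bigForm B) f := by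
  obtain ⟨σ, S⟩ := C.exists_signed
  exact ⟨_, S.chart C⟩

end Cfsg.Lib.Fischer.Thm.Refl
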