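import Mathlib

/-!
# Signs with prescribed products on the edges of a graph of diameter two

If the prescribed products are consistent on triangles and common neighbours of two points are joined among
themselves, signs exist; two solutions differ by one sign.
-/

set_option autoImplicit false

namespace Cfsg.Lib.Fischer.Thm.Refl

variable {ι : Type*} (adj : ι → ι → Prop) (w : ι → ι → ZMod 3)

/-- The data for balancing: edge products, triangles, diameter two and connectedness of common
neighbourhoods. -/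
structure Balanced : Prop where
  symm : ∀ a b, adj a b → adj b a
  wsymm : ∀ a b, adj a b → w a b = w b a
  sq : ∀ a b, adj a b → w a b * w a b = 1
  tri : ∀ a b c, adj a b → adj b c → adj a c → w a b * w b c = w a c
  link : ∀ a b, ∃ p, adj a p ∧ adj b p
  path : ∀ a b p p', ¬ adj a b → adj a p → adj b p → adj a p' → adj b p' →
    Relation.ReflTransGen (fun q q' => adj q q' ∧ adj a q ∧ adj b q ∧ adj a q' ∧ adj b q') p p'
  triple : ∀ a b b', ¬ adj a b → ¬ adj a b' → adj b b' → ∃ q, adj a q ∧ adj b q ∧ adj b' q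

variable {adj w}

theorem Balanced.indep (h : Balanced adj w) {a b p p' : ι} (h1 : adj a p) (h2 : adj b p) (h3 : adj a p')
    (h4 : adj b p') : w a p * w p b = w a p' * w p' b := by
  by_cases hab : adj a b
  · rw [h.tri a p b h1 (h.symm _ _ h2) hab, h.tri a p' b h3 (h.symm _ _ h4) hab]
  have hp := h.path a b p p' hab h1 h2 h3 h4
  induction hp with
  | refl => rfl
  | @tail q q' _ hqq ih =>
    obtain ⟨hadj, a1, b1, a2, b2⟩ := hqq
    rw [ih a1 b1, ← h.tri a q q' a1 hadj a2, mul_assoc, h.tri q q' b hadj (h.symm _ _ b2) (h.symm _ _ b1)]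

/-- Signs exist. -/
theorem Balanced.exists_sign (h : Balanced adj w) :
    ∃ ε : ι → ZMod 3, (∀ a, ε a * ε a = 1) ∧ ∀ a b, adj a b → ε a * ε b = w a b := by
  classical
  rcases isEmpty_or_nonempty ι with he | ⟨⟨o⟩⟩
  · exact ⟨fun _ => 1, fun a => (he.false a).elim, fun a => (he.false a).elim⟩
  choose p hp using fun b => h.link o b
  let ε : ι → ZMod 3 := fun b => w o (p b) * w (p b) b
  have hadj : ∀ b, adj o b → ε b = w o b := fun b hb =>
    h.tri o (p b) b (hp b).1 (h.symm _ _ (hp b).2) hb
  have hvia : ∀ b q, adj o q → adj b q → ε b = w o q * w q b := fun b q h1 h2 =>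
    h.indep (hp b).1 (hp b).2 h1 h2
  have hsq : ∀ b, ε b * ε b = 1 := fun b => by
    show w o (p b) * w (p b) b * (w o (p b) * w (p b) b) = 1
    linear_combination (w o (p b) * w o (p b)) * h.sq _ _ (h.symm _ _ (hp b).2) + h.sq _ _ (hp b).1
  have hedge : ∀ b b', adj o b → adj b b' → ε b * ε b' = w b b' := fun b b' hb hbb => by
    rw [hadj b hb, hvia b' b hb (h.symm _ _ hbb)]
    linear_combination w b b' * h.sq _ _ hb
  refine ⟨ε, hsq, fun b b' hbb => ?_⟩
  by_cases hb : adj o b
  · exact hedge b b' hb hbb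
  by_cases hb' : adj o b'
  · rw [mul_comm, hedge b' b hb' (h.symm _ _ hbb), h.wsymm _ _ hbb]
  obtain ⟨q, h1, h2, h3⟩ := h.triple o b b' hb hb' hbb
  rw [hvia b q h1 h2, hvia b' q h1 h3, h.wsymm _ _ (h.symm _ _ h2)]
  linear_combination (w b q * w q b') * h.sq _ _ h1 + h.tri b q b' h2 (h.symm _ _ h3) hbb

/-- Two systems of signs with the same products differ by one sign. -/
theorem Balanced.sign_unique (h : Balanced adj w) {ε ε' : ι → ZMod 3}
    (h1 : ∀ a, ε a * ε a = 1) (h1' : ∀ a, ε' a * ε' a = 1)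
    (h2 : ∀ a b, adj a b → ε a * ε b = w a b) (h2' : ∀ a b, adj a b → ε' a * ε' b = w a b) (a b : ι) :
    ε a * ε' a = ε b * ε' b := by
  have step : ∀ c d, adj c d → ε c * ε' c = ε d * ε' d := fun c d hcd => by
    have e := (h2 c d hcd).trans (h2' c d hcd).symm
    linear_combination (ε d * ε' c) * e - (ε c * ε' c) * h1 d + (ε d * ε' d) * h1' c
  obtain ⟨p, hap, hbp⟩ := h.link a b
  rw [step a p hap, step b p hbp]

end Cfsg.Lib.Fischer.Thm.Refl
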