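import Cfsg.Agent.Lib.Fischer.Thm.Refl.Space
import Cfsg.Agent.Lib.Fischer.Thm.Refl.Balance
import Cfsg.Agent.Lib.Fischer.Basic

/-!
# Classes of transpositions charted by the units of a form

Two charts of the same set differ by an isometry.
-/

set_option autoImplicit false
set_option linter.unusedSectionVars false

namespace Cfsg.Lib.Fischer.Thm.Refl

open Cfsg.Lib.Fischer

variable {G : Type*} [Group G] {D S : Set G}
  {V : Type*} [AddCommGroup V] [Module (ZMod 3) V] {B : LinearMap.BilinForm (ZMod 3) V}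

/-- `f` identifies `S` with the units up to sign, conjugation becoming reflection. -/
structure Chart (S : Set G) (B : LinearMap.BilinForm (ZMod 3) V) (f : G → V) : Prop where
  unit : ∀ a ∈ S, IsUnitVec B (f a)
  inj : ∀ a ∈ S, ∀ b ∈ S, Sim (f a) (f b) → a = b
  surj : ∀ v, IsUnitVec B v → ∃ a ∈ S, Sim (f a) v
  op : ∀ a ∈ S, ∀ b ∈ S, cj a b ∈ S ∧ Sim (f (cj a b)) (refl B (f a) (f b))

variable (hD : Trans D) (hS : S ⊆ D) (hB : Form B) {f : G → V} (C : Chart S B f)
include hD hS hB C

theorem Chart.commute_iff {a b : G} (ha : a ∈ S) (hb : b ∈ S) (hne : a ≠ b) :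
    Commute a b ↔ B (f a) (f b) = 0 := by
  constructor
  · intro h
    have h1 := (C.op a ha b hb).2
    rw [cj_of_commute hD (hS ha) h] at h1
    exact (orth_of_refl_sim hB (C.unit a ha) h1.symm).resolve_right fun e => hne (C.inj a ha b hb e)
  · intro h
    have h1 := (C.op a ha b hb).2
    rw [refl_fix h] at h1
    exact (cj_eq_self hD (hS ha)).1 (C.inj _ (C.op a ha b hb).1 b hb h1)

theorem Chart.orth_iff {a b : G} (ha : a ∈ S) (hb : b ∈ S) :
    B (f a) (f b) = 0 ↔ (a ≠ b ∧ Commute a b) := by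
  constructor
  · intro h
    have hne : a ≠ b := fun e => by
      subst e
      rw [(C.unit a ha : B (f a) (f a) = 2)] at h
      exact absurd h (by decide)
    exact ⟨hne, (C.commute_iff hD hS hB ha hb hne).2 h⟩
  · exact fun h => (C.commute_iff hD hS hB ha hb h.1).1 h.2

/-- Whether the product round a triangle is one is visible in the class. -/
theorem Chart.tri_iff {a b c : G} (ha : a ∈ S) (hb : b ∈ S) (hc : c ∈ S) (hab : B (f a) (f b) ≠ 0)
    (hbc : B (f b) (f c) ≠ 0) :
    B (f a) (f b) * B (f b) (f c) * B (f a) (f c) = 1 ↔ (cj a b ≠ c ∧ Commute (cj a b) c) := by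
  rw [← C.orth_iff hD hS hB (C.op a ha b hb).1 hc, ((C.op a ha b hb).2).orth, refl_apply]
  simp only [map_sub, map_smul, LinearMap.sub_apply, LinearMap.smul_apply, smul_eq_mul]
  revert hab hbc
  generalize B (f a) (f b) = p
  generalize B (f b) (f c) = q
  generalize B (f a) (f c) = r
  revert p q r
  decide

variable [Module.Finite (ZMod 3) V] {W : Type*} [AddCommGroup W] [Module (ZMod 3) W]
  [Module.Finite (ZMod 3) W] {B' : LinearMap.BilinForm (ZMod 3) W}

/-- Two charts of one set differ by an isometry. -/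
theorem Chart.exists_isometry (hB' : Form B') {g : G → W} (C' : Chart S B' g)
    (hV : 4 ≤ Module.finrank (ZMod 3) V) (hW : 3 ≤ Module.finrank (ZMod 3) W) :
    ∃ L : V ≃ₗ[ZMod 3] W, (∀ u v, B' (L u) (L v) = B u v) ∧ ∀ a ∈ S, Sim (L (f a)) (g a) := by
  classical
  let adj : ↥S → ↥S → Prop := fun a b => B (f a) (f b) ≠ 0
  let w : ↥S → ↥S → ZMod 3 := fun a b => B (f a) (f b) * B' (g a) (g b)
  have hsame : ∀ a b : ↥S, B (f a) (f b) = 0 ↔ B' (g a) (g b) = 0 := fun a b => by
    rw [C.orth_iff hD hS hB a.2 b.2, C'.orth_iff hD hS hB' a.2 b.2]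
  have hne' : ∀ {a b : ↥S}, adj a b → B' (g a) (g b) ≠ 0 := fun h e => h ((hsame _ _).2 e)
  have hself : ∀ a : ↥S, adj a a := fun a e => by
    rw [(C.unit a a.2 : B (f a) (f a) = 2)] at e; exact absurd e (by decide)
  have hbal : Balanced adj w := by
    refine ⟨fun a b h => fun e => h (by rwa [hB.symm]), fun a b _ => by
      simp only [w, hB.symm (f a), hB'.symm (g a)], fun a b h => ?_, fun a b c hab hbc hac => ?_, fun a b => ?_,
      fun a b p p' hab h1 h2 h3 h4 => ?_, fun a b b' hab hab' hbb => ?_⟩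
    · show _ * _ * (_ * _) = (1 : ZMod 3)
      linear_combination (B' (g a) (g b) * B' (g a) (g b)) * z3_sq h + z3_sq (hne' h)
    · have h1 := C.tri_iff hD hS hB a.2 b.2 c.2 hab hbc
      have h2 := C'.tri_iff hD hS hB' a.2 b.2 c.2 (hne' hab) (hne' hbc)
      have h3 := h1.trans h2.symm
      have k1 := hne' hab
      have k2 := hne' hbc
      have k3 := hne' hac
      show B (f a) (f b) * B' (g a) (g b) * (B (f b) (f c) * B' (g b) (g c)) = B (f a) (f c) * B' (g a) (g c)
      revert h3 k1 k2 k3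
      simp only [adj] at hab hbc hac
      revert hab hbc hac
      generalize B (f a) (f b) = p
      generalize B (f b) (f c) = q
      generalize B (f a) (f c) = r
      generalize B' (g a) (g b) = p'
      generalize B' (g b) (g c) = q'
      generalize B' (g a) (g c) = r'
      intro hp hq hr h3 k1 k2 k3
      rcases z3_ne hp with rfl | rfl <;> rcases z3_ne hq with rfl | rfl <;> rcases z3_ne hr with rfl | rfl <;>
        rcases z3_ne k1 with rfl | rfl <;> rcases z3_ne k2 with rfl | rfl <;> rcases z3_ne k3 with rfl | rfl <;>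
        revert h3 <;> decide
    · by_cases hab : adj a b
      · exact ⟨a, hself a, fun e => hab (by rwa [hB.symm])⟩
      · obtain ⟨x, hx, h1, h2⟩ := exists_link hB hV (C.unit a a.2) (C.unit b b.2) (not_not.1 hab)
        obtain ⟨p, hp, hpx⟩ := C.surj x hx
        refine ⟨⟨p, hp⟩, fun e => h1 ?_, fun e => h2 ?_⟩ <;>
          · rw [hB.symm]; rw [hB.symm] at e; exact hpx.orth.1 e
    · have hpa : adj p a := fun e => h1 (by rwa [hB.symm])
      by_cases hpp : adj p p'
      · exact Relation.ReflTransGen.single ⟨hpp, h1, h2, h3, h4⟩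
      obtain ⟨hq, hqs⟩ := C.op p p.2 a a.2
      have hab0 : B (f a) (f b) = 0 := not_not.1 hab
      have hpp0 : B (f p) (f p') = 0 := not_not.1 hpp
      set q : ↥S := ⟨cj (p : G) a, hq⟩
      have hq' : ∀ z : ↥S, B (f a) (f z) - B (f p) (f a) * B (f p) (f z) ≠ 0 → adj q z := fun z hz e => hz (by
        have e' := hqs.orth.1 e
        rwa [refl_apply, map_sub, LinearMap.sub_apply, map_smul, LinearMap.smul_apply, smul_eq_mul] at e')
      have hqp : adj q p := hq' p (by
        rw [(C.unit p p.2 : B (f p) (f p) = 2), hB.symm (f a)]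
        revert hpa; simp only [adj]; generalize B (f p) (f a) = t; revert t; decide)
      have hqa : adj q a := hq' a (by
        rw [(C.unit a a.2 : B (f a) (f a) = 2)]
        revert hpa; simp only [adj]; generalize B (f p) (f a) = t; revert t; decide)
      have hqb : adj q b := hq' b (by
        rw [hab0, zero_sub, neg_ne_zero]
        exact mul_ne_zero hpa (fun e => h2 (by rwa [hB.symm])))
      have hqp' : adj q p' := hq' p' (by rw [hpp0, mul_zero, sub_zero]; exact h3)
      have haq : adj a q := fun e => hqa (by rwa [hB.symm])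
      have hbq : adj b q := fun e => hqb (by rwa [hB.symm])
      exact Relation.ReflTransGen.head ⟨fun e => hqp (by rwa [hB.symm]), h1, h2, haq, hbq⟩
        (Relation.ReflTransGen.single ⟨hqp', haq, hbq, h3, h4⟩)
    · obtain ⟨x, hx, h1, h2⟩ := exists_link hB hV (C.unit a a.2) (C.unit b b.2) (not_not.1 hab)
      obtain ⟨p, hp, hpx⟩ := C.surj x hx
      have hap : adj a ⟨p, hp⟩ := fun e => h1 (by rw [hB.symm] at e ⊢; exact hpx.orth.1 e)
      have hbp : adj b ⟨p, hp⟩ := fun e => h2 (by rw [hB.symm] at e ⊢; exact hpx.orth.1 e)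
      by_cases h3 : adj b' ⟨p, hp⟩
      · exact ⟨_, hap, hbp, h3⟩
      obtain ⟨hq, hqs⟩ := C.op p hp b b.2
      have hq' : ∀ z : ↥S, B (f b) (f z) - B (f p) (f b) * B (f p) (f z) ≠ 0 → adj z ⟨_, hq⟩ := fun z hz e => hz (by
        change B (f z) (f (cj p b)) = 0 at e
        rw [hB.symm] at e
        have e' := hqs.orth.1 e
        rwa [refl_apply, map_sub, LinearMap.sub_apply, map_smul, LinearMap.smul_apply, smul_eq_mul] at e')
      have hpb : B (f p) (f b) ≠ 0 := fun e => hbp (by rw [← hB.symm] at e; exact e)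
      refine ⟨⟨_, hq⟩, hq' a ?_, hq' b ?_, hq' b' ?_⟩
      · rw [hB.symm (f b) (f a), not_not.1 hab, zero_sub, neg_ne_zero]
        exact mul_ne_zero hpb fun e => hap (by rw [← hB.symm] at e; exact e)
      · rw [(C.unit b b.2 : B (f b) (f b) = 2)]
        revert hpb; generalize B (f p) (f b) = t; revert t; decide
      · have h30 : B (f b') (f p) = 0 := not_not.1 h3
        rw [hB.symm (f p) (f b'), h30, mul_zero, sub_zero]; exact hbb
  obtain ⟨ε, hε, hεw⟩ := hbal.exists_sign
  let φ : ↥S → W := fun a => ε a • g a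
  have hφ : ∀ a b : ↥S, B' (φ a) (φ b) = B (f a) (f b) := by
    intro a b
    simp only [φ, map_smul, LinearMap.smul_apply, smul_eq_mul]
    by_cases h : adj a b
    · rw [← mul_assoc, mul_comm (ε b) (ε a), hεw a b h]
      show B (f a) (f b) * B' (g a) (g b) * B' (g a) (g b) = _
      rw [mul_assoc, z3_sq (hne' h), mul_one]
    · rw [(hsame a b).1 (not_not.1 h), not_not.1 h, mul_zero, mul_zero]
  have hφs : ∀ a : ↥S, Sim (φ a) (g a) := fun a => sim_smul (fun e => by
    have := hε a; rw [e, zero_mul] at this; exact zero_ne_one this) _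
  let T : (↥S →₀ ZMod 3) →ₗ[ZMod 3] V := Finsupp.linearCombination (ZMod 3) fun a : ↥S => f a
  let T' : (↥S →₀ ZMod 3) →ₗ[ZMod 3] W := Finsupp.linearCombination (ZMod 3) φ
  have hcompat : ∀ l (b : ↥S), B' (T' l) (φ b) = B (T l) (f b) := fun l b =>
    LinearMap.congr_fun (Finsupp.lhom_ext' (φ := (B'.flip (φ b)).comp T') (ψ := (B.flip (f b)).comp T)
      fun a => LinearMap.ext_ring (by simp [T, T', hφ a b])) l
  have hperp : ∀ x : W, (∀ b : ↥S, B' x (φ b) = 0) → x = 0 := fun x hx =>
    eq_zero_of_orth_units hB' hW fun v hv => by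
      obtain ⟨b, hb, hbv⟩ := C'.surj v hv
      rw [hB'.symm]
      exact ((hφs ⟨b, hb⟩).trans hbv).orth.1 (by rw [hB'.symm]; exact hx ⟨b, hb⟩)
  have hperpV : ∀ x : V, (∀ b : ↥S, B x (f b) = 0) → x = 0 := fun x hx =>
    eq_zero_of_orth_units hB (by omega) fun v hv => by
      obtain ⟨b, hb, hbv⟩ := C.surj v hv
      rw [hB.symm]
      exact hbv.orth.1 (by rw [hB.symm]; exact hx ⟨b, hb⟩)
  have hspanV : LinearMap.range T = ⊤ := by
    by_contra h
    obtain ⟨φ', hφ', hT⟩ := Submodule.exists_dual_map_eq_bot_of_lt_top (lt_top_iff_ne_top.2 h) inferInstance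
    have hnd : B.Nondegenerate := ⟨hB.nondeg, fun y hy => hB.nondeg y fun x => by rw [hB.symm]; exact hy x⟩
    obtain ⟨x, rfl⟩ := (B.toDual hnd).surjective φ'
    refine hφ' ?_
    suffices h0 : ∀ b : ↥S, (B.toDual hnd x) (f b) = 0 by
      rw [hperpV x fun b => by rw [← h0 b, LinearMap.BilinForm.toDual_def], map_zero]
    intro b
    have : (B.toDual hnd x) (f b) ∈ (LinearMap.range T).map (B.toDual hnd x) :=
      ⟨_, ⟨Finsupp.single b 1, by simp [T]⟩, rfl⟩
    rwa [hT, Submodule.mem_bot] at this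
  obtain ⟨s, hs⟩ := T.exists_rightInverse_of_surjective hspanV
  let L := T'.comp s
  have hL : ∀ x (b : ↥S), B' (L x) (φ b) = B x (f b) := fun x b => by
    show B' (T' (s x)) (φ b) = _
    rw [hcompat, show T (s x) = x from LinearMap.congr_fun hs x]
  have hLf : ∀ a : ↥S, L (f a) = φ a := fun a =>
    sub_eq_zero.1 (hperp _ fun b => by rw [map_sub, LinearMap.sub_apply, hL, hφ, sub_self])
  have hiso : ∀ u v, B' (L u) (L v) = B u v := fun u v => by
    obtain ⟨l, rfl⟩ : ∃ l, T l = v := LinearMap.range_eq_top.1 hspanV v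
    exact LinearMap.congr_fun (Finsupp.lhom_ext' (φ := ((B' (L u)).comp L).comp T) (ψ := (B u).comp T)
      fun a => LinearMap.ext_ring (by simp [T, hLf, hL])) l
  have hinj : Function.Injective L := by
    rw [injective_iff_map_eq_zero]
    intro x hx
    exact hperpV x fun b => by rw [← hL, hx, map_zero, LinearMap.zero_apply]
  have hsur : Function.Surjective L := by
    rw [← LinearMap.range_eq_top]
    by_contra h
    obtain ⟨φ', hφ', hT⟩ := Submodule.exists_dual_map_eq_bot_of_lt_top (lt_top_iff_ne_top.2 h) inferInstance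
    have hnd : B'.Nondegenerate := ⟨hB'.nondeg, fun y hy => hB'.nondeg y fun x => by rw [hB'.symm]; exact hy x⟩
    obtain ⟨x, rfl⟩ := (B'.toDual hnd).surjective φ'
    refine hφ' ?_
    suffices h0 : ∀ b, (B'.toDual hnd x) (φ b) = 0 by
      rw [hperp x fun b => by rw [← h0 b, LinearMap.BilinForm.toDual_def], map_zero]
    intro b
    have : (B'.toDual hnd x) (φ b) ∈ (LinearMap.range L).map (B'.toDual hnd x) :=
      ⟨_, ⟨f b, hLf b⟩, rfl⟩
    rwa [hT, Submodule.mem_bot] at this
  refine ⟨LinearEquiv.ofBijective L ⟨hinj, hsur⟩, hiso, fun a ha => ?_⟩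
  show Sim (L (f a)) (g a)
  rw [show L (f a) = φ ⟨a, ha⟩ from hLf ⟨a, ha⟩]
  exact hφs ⟨a, ha⟩

end Cfsg.Lib.Fischer.Thm.Refl
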