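import Cfsg.Agent.Lib.Fischer.Thm.List
import Cfsg.Agent.Lib.Fischer.Thm.Refl.Group
import Cfsg.Agent.Lib.Fischer.Thm.Refl.Charts

/-!
# A charted class is a class of reflections
-/

set_option autoImplicit false
set_option linter.unusedSectionVars false
set_option linter.unusedVariables false
set_option linter.unusedSimpArgs false

namespace Cfsg.Lib.Fischer.Thm.Refl

open Cfsg Cfsg.Lib.Fischer

variable {G : Type*} [Group G] [Finite G] {D : Set G}

/-- The centre of a group of the kind studied is trivial. -/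
theorem center_bot (hF : IsFischer D) : Subgroup.center G = ⊥ :=
  hF.sol _ inferInstance (Group.isSolvable_of_comm fun a b => Subtype.ext (Subgroup.mem_center_iff.1 b.2 a))

/-- A charted class is the class of reflections of its units. -/
theorem isRefl_of_chart (hF : IsFischer D) {n : ℕ} (hn : 4 ≤ n) {Q : QuadraticForm (ZMod 3) (Fin n → ZMod 3)}
    (hQ : (QuadraticMap.polarBilin Q).Nondegenerate) {c μ : ZMod 3} (hc : c ≠ 0)
    (hμ : Cfsg.polarGramDet (⇑Q) = μ) {f : G → Fin n → ZMod 3} (C : Chart D (unitForm Q c) f) :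
    IsRefl G D n μ c := by
  classical
  have hD := hF.toTrans
  have hB := unitForm_form hQ hc
  let R := ↥(reflectionSubgroup (⇑Q) c)
  have hpre : ∀ (g : R) (d : ↥D), ∃ d' : ↥D, Sim (f d') (act g (f d)) := fun g d => by
    obtain ⟨d', hd', h⟩ := C.surj _ (act_unit hQ hc g (C.unit d d.2))
    exact ⟨⟨d', hd'⟩, h⟩
  choose T hT using hpre
  have huniq : ∀ (g : R) (d d' : ↥D), Sim (f d') (act g (f d)) → T g d = d' := fun g d d' h =>
    Subtype.ext (C.inj _ (T g d).2 _ d'.2 ((hT g d).trans h.symm))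
  let conjD : G → ↥D → ↥D := fun g d => ⟨g * d * g⁻¹, hD.conj g d d.2⟩
  let φ : G →* Equiv.Perm ↥D :=
    { toFun := fun g => ⟨conjD g, conjD g⁻¹, fun d => Subtype.ext (by simp [conjD, mul_assoc]),
        fun d => Subtype.ext (by simp [conjD, mul_assoc])⟩
      map_one' := Equiv.ext fun d => Subtype.ext (by simp [conjD])
      map_mul' := fun g h => Equiv.ext fun d => Subtype.ext (by simp [conjD, mul_assoc]) }
  have hφ : ∀ g (d : ↥D), ((φ g d : ↥D) : G) = g * d * g⁻¹ := fun g d => rfl
  have hTmul : ∀ g h d, T (g * h) d = T g (T h d) := fun g h d =>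
    huniq _ _ _ ((hT g (T h d)).trans ((act_sim g (hT h d)).trans (Or.inl (act_mul g h _).symm)))
  have hTone : ∀ d, T (1 : R) d = d := fun d => huniq _ _ _ (Or.inl (act_one _).symm)
  let k : R →* Equiv.Perm ↥D :=
    { toFun := fun g => ⟨T g, T g⁻¹, fun d => by rw [← hTmul, inv_mul_cancel, hTone],
        fun d => by rw [← hTmul, mul_inv_cancel, hTone]⟩
      map_one' := Equiv.ext hTone
      map_mul' := fun g h => Equiv.ext (hTmul g h) }
  have hinj : Function.Injective φ := by
    rw [← MonoidHom.ker_eq_bot_iff, eq_bot_iff, ← center_bot hF]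
    intro g hg
    rw [Subgroup.mem_center_iff]
    intro h
    have hle : Subgroup.closure D ≤ Subgroup.centralizer {g} := by
      rw [Subgroup.closure_le]
      intro d hd
      refine Subgroup.mem_centralizer_singleton_iff.2 ?_
      have h1 : g * d * g⁻¹ = d :=
        congrArg Subtype.val (Equiv.congr_fun (MonoidHom.mem_ker.1 hg) (⟨d, hd⟩ : ↥D))
      exact (mul_inv_eq_iff_eq_mul.1 h1).symm
    exact Subgroup.mem_centralizer_singleton_iff.1 (hle (hD.gen ▸ Subgroup.mem_top h))
  have hker : k.ker = Subgroup.center R := by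
    ext g
    rw [refl_center_iff hQ hc, MonoidHom.mem_ker]
    constructor
    · intro h a ha
      obtain ⟨d, hd, hda⟩ := C.surj a ha
      have h1 : T g ⟨d, hd⟩ = (⟨d, hd⟩ : ↥D) := Equiv.congr_fun h _
      have h2 := hT g ⟨d, hd⟩
      rw [h1] at h2
      exact ((act_sim g hda).symm.trans h2.symm).trans hda
    · exact fun h => Equiv.ext fun d => huniq g d d (h _ (C.unit d d.2)).symm
  have hgen : ∀ (r : R) (d : G) (hd : d ∈ D),
      (∀ z, act r z = refl (unitForm Q c) (f d) z) → k r = φ d := by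
    intro r d hd hr
    refine Equiv.ext fun d' => huniq r d' (φ d d') ?_
    rw [hφ, ← cj_conj hD hd, hr]
    exact (C.op d hd d' d'.2).2
  let S : Set R := {g | (g : ↥(isometryGroup (ZMod 3) (⇑Q))) ∈ reflectionsOfNorm (⇑Q) c}
  have hSD : k '' S = φ '' D := by
    ext p
    constructor
    · rintro ⟨r, hr, rfl⟩
      obtain ⟨a, ha, hra⟩ := member_unit hQ hc hr
      obtain ⟨d, hd, hda⟩ := C.surj a ha
      exact ⟨d, hd, (hgen r d hd fun z => by rw [refl_sim hda]; exact hra z).symm⟩
    · rintro ⟨d, hd, rfl⟩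
      obtain ⟨r, hr, hra⟩ := exists_member hQ hc (C.unit d hd)
      exact ⟨r, hr, hgen r d hd hra⟩
  have hS : Subgroup.closure S = ⊤ := Subgroup.closure_closure_coe_preimage
  have hrange : φ.range = k.range := by
    rw [MonoidHom.range_eq_map, MonoidHom.range_eq_map, ← hD.gen, ← hS, MonoidHom.map_closure,
      MonoidHom.map_closure, hSD]
  let e : G ≃* R ⧸ Subgroup.center R :=
    (((MonoidHom.ofInjective hinj).trans (MulEquiv.subgroupCongr hrange)).trans
      (QuotientGroup.quotientKerEquivRange k).symm).trans (QuotientGroup.quotientMulEquivOfEq hker)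
  have he : ∀ (r : R) (d : G), k r = φ d → e d = QuotientGroup.mk r := by
    intro r d h
    have h1 : MulEquiv.subgroupCongr hrange (MonoidHom.ofInjective hinj d) =
        QuotientGroup.quotientKerEquivRange k (QuotientGroup.mk r) := Subtype.ext h.symm
    simp only [e, MulEquiv.trans_apply, h1, MulEquiv.symm_apply_apply]
    rfl
  refine ⟨Q, hQ, hμ, hc, e, ?_⟩
  ext q
  constructor
  · rintro ⟨d, hd, rfl⟩
    obtain ⟨r, hr, hra⟩ := exists_member hQ hc (C.unit d hd)
    exact ⟨r, hr, (he r d (hgen r d hd hra)).symm⟩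
  · rintro ⟨r, hr, rfl⟩
    obtain ⟨a, ha, hra⟩ := member_unit hQ hc hr
    obtain ⟨d, hd, hda⟩ := C.surj a ha
    exact ⟨d, hd, he r d (hgen r d hd fun z => by rw [refl_sim hda]; exact hra z)⟩

end Cfsg.Lib.Fischer.Thm.Refl
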