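import Cfsg.Agent.Lib.Fischer.Thm.Steps
import Cfsg.Agent.Lib.Fischer.Thm.Refl.Global
import Cfsg.Agent.Lib.Fischer.Thm.Refl.Iso

/-!
# Reflection neighbourhoods over three elements give reflection groups one dimension higher
-/

set_option autoImplicit false
set_option linter.unusedSectionVars false
set_option linter.unusedVariables false
set_option linter.unusedSimpArgs false

namespace Cfsg.Lib.Fischer.Thm

open Cfsg Cfsg.Lib.Fischer Cfsg.Lib.Fischer.Relations

namespace Refl

variable {G : Type*} [Group G] [Finite G] {D : Set G}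

/-- The chart of the neighbours read off the given isomorphism. -/
theorem exists_ctx (hF : IsFischer D) {x : G} (hx : x ∈ D) {n : ℕ} (hn : 5 ≤ n)
    {Q : QuadraticForm (ZMod 3) (Fin n → ZMod 3)} (hQ : (QuadraticMap.polarBilin Q).Nondegenerate) {c : ZMod 3}
    (hc : c ≠ 0)
    (e : Loc G D x ≃* ↥(reflectionSubgroup (⇑Q) c) ⧸ Subgroup.center ↥(reflectionSubgroup (⇑Q) c))
    (he : e '' locSet G D x = (QuotientGroup.mk : ↥(reflectionSubgroup (⇑Q) c) → _) ''
      {g | (g : ↥(isometryGroup (ZMod 3) (⇑Q))) ∈ reflectionsOfNorm (⇑Q) c}) :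
    ∃ π : G → Fin n → ZMod 3, Ctx D x (unitForm Q c) π := by
  classical
  have hD := hF.toTrans
  have hB := unitForm_form hQ hc
  have hsep := fun a ha b hb h => eq_of_commute_iff hF (a := a) (b := b) ha hb h
  have hex : ∀ v, ∀ hv : v ∈ perp D x, ∃ a, IsUnitVec (unitForm Q c) a ∧ ∃ r, e (bar hv) = QuotientGroup.mk r ∧
      ∀ z, act r z = refl (unitForm Q c) a z := by
    intro v hv
    obtain ⟨r, hr, hre⟩ := he.le ⟨bar hv, bar_mem hv, rfl⟩
    obtain ⟨a, ha, hra⟩ := member_unit hQ hc hr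
    exact ⟨a, ha, r, hre.symm, hra⟩
  choose π hπ ρ hρ hρa using hex
  let p : G → Fin n → ZMod 3 := fun v => if h : v ∈ perp D x then π v h else 0
  have hp : ∀ v (hv : v ∈ perp D x), p v = π v hv := fun v hv => dif_pos hv
  have huniq : ∀ (v : G) (hv : v ∈ perp D x) (a : Fin n → ZMod 3) (r : ↥(reflectionSubgroup (⇑Q) c)),
      IsUnitVec (unitForm Q c) a → (∀ z, act r z = refl (unitForm Q c) a z) → e (bar hv) = QuotientGroup.mk r →
      Sim (p v) a := fun v hv a r ha hr h => by
    rw [hp v hv]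
    exact sim_of_mk_eq hQ hc hn (hπ v hv) ha (hρa v hv) hr ((hρ v hv).symm.trans h)
  refine ⟨p, ⟨hF, hx, hB, ⟨fun a ha => ?_, fun a ha b hb h => ?_, fun w hw => ?_, fun a ha b hb => ?_⟩, ?_⟩⟩
  · rw [hp a ha]; exact hπ a ha
  · rw [hp a ha, hp b hb] at h
    have e1 : ρ a ha = ρ b hb := act_ext fun z => by rw [hρa, hρa, refl_sim h]
    refine bar_inj hD (S := perp D x) (fun _ h => h.1) (fun u hu => exists_perp_noncommute hD hsep hx hu) ha hb
      (e.injective ?_)
    rw [hρ a ha, hρ b hb, e1]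
  · obtain ⟨r, hr, hra⟩ := exists_member hQ hc hw
    obtain ⟨q, hq, hqr⟩ := he.ge ⟨r, hr, rfl⟩
    obtain ⟨v, hv, rfl⟩ := exists_bar hq
    exact ⟨v, hv, huniq v hv w r hw hra hqr⟩
  · have hm := (cj_mem_perp hD hx (Set.mem_insert_of_mem _ ha) hb).1
    refine ⟨hm, ?_⟩
    rw [hp a ha, hp b hb]
    refine huniq _ hm _ (ρ a ha * ρ b hb * ρ a ha) (refl_unit hB (hπ a ha) (hπ b hb)) (fun z => ?_) ?_
    · rw [act_mul, act_mul, hρa, hρa, hρa, refl_conj hB (hπ a ha) (refl (unitForm Q c) (π a ha) z),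
        refl_refl (hπ a ha)]
    · rw [show bar hm = bar ha * bar hb * bar ha from rfl, map_mul, map_mul, hρ, hρ]
      rfl
  · rw [Module.finrank_fin_fun]; exact hn

end Refl

open Refl in
universe u in
/-- Reflection neighbourhoods give reflection groups one dimension higher. -/
theorem reflStep : ReflStep.{u} := by
  intro G _ _ D hF x hx _ n μ c hn hrefl
  obtain ⟨Q, hQ, hμ, hc, e, he⟩ := hrefl
  obtain ⟨π, C⟩ := exists_ctx hF hx hn hQ hc e he
  obtain ⟨f, Cf⟩ := C.exists_chart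
  let Q' : QuadraticForm (ZMod 3) (Fin (n + 1) → ZMod 3) :=
    c • (QuadraticMap.sq (R := ZMod 3).comp (LinearMap.proj 0)) + Q.comp (LinearMap.funLeft (ZMod 3) (ZMod 3) Fin.succ)
  have hQ'v : ∀ w, Q' w = c * (w 0 * w 0) + Q (Fin.tail w) := fun w => rfl
  have hpolar : ∀ w w', QuadraticMap.polar (⇑Q') w w' =
      c * (2 * w 0 * w' 0) + QuadraticMap.polar (⇑Q) (Fin.tail w) (Fin.tail w') := fun w w' => by
    simp only [QuadraticMap.polar, hQ'v]
    rw [show Fin.tail (w + w') = Fin.tail w + Fin.tail w' from rfl, Pi.add_apply]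
    ring
  obtain ⟨J, hJc⟩ : ∃ J : (ZMod 3 × (Fin n → ZMod 3)) ≃ₗ[ZMod 3] (Fin (n + 1) → ZMod 3),
      ∀ p, J p = Fin.cons p.1 p.2 :=
    ⟨Fin.consLinearEquiv (ZMod 3) fun _ : Fin (n + 1) => ZMod 3, fun p => rfl⟩
  have hJ : ∀ p q, unitForm Q' c (J p) (J q) = bigForm (unitForm Q c) p q := fun p q => by
    rw [unitForm_apply, bigForm_apply, unitForm_apply, QuadraticMap.polarBilin_apply_apply,
      QuadraticMap.polarBilin_apply_apply, hpolar]
    rw [hJc, hJc, Fin.tail_cons, Fin.tail_cons, Fin.cons_zero, Fin.cons_zero]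
    linear_combination (2 * p.1 * q.1) * z3_sq hc
  have hQ' : (QuadraticMap.polarBilin Q').Nondegenerate := by
    have key : ∀ v, (∀ w, QuadraticMap.polarBilin Q' v w = 0) → v = 0 := fun v hv => by
      obtain ⟨p, rfl⟩ := J.surjective v
      rw [(bigForm_form C.form).nondeg p fun q => by rw [← hJ, unitForm_apply, hv, mul_zero], map_zero]
    exact ⟨key, fun w hw => key w fun v => by
      have := hw v
      rw [QuadraticMap.polarBilin_apply_apply] at this ⊢
      rwa [QuadraticMap.polar_comm]⟩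
  have hdet : Cfsg.polarGramDet (⇑Q') = -(μ * c) := by
    rw [Cfsg.polarGramDet, Matrix.det_succ_row_zero, Fin.sum_univ_succ]
    have h0 : ∀ j : Fin n, QuadraticMap.polar (⇑Q') (Pi.single 0 1) (Pi.single j.succ 1) = 0 := fun j => by
      rw [hpolar]
      have : Fin.tail (Pi.single 0 1 : Fin (n + 1) → ZMod 3) = 0 := funext fun i => by
        simp [Fin.tail, Fin.succ_ne_zero]
      rw [this, QuadraticMap.polar_zero_left]
      simp [Fin.succ_ne_zero]
    rw [Finset.sum_eq_zero (fun j _ => by rw [Matrix.of_apply, h0]; ring), add_zero]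
    have h00 : QuadraticMap.polar (⇑Q') (Pi.single 0 1) (Pi.single 0 1) = -c := by
      rw [hpolar]
      have : Fin.tail (Pi.single 0 1 : Fin (n + 1) → ZMod 3) = 0 := funext fun i => by
        simp [Fin.tail, Fin.succ_ne_zero]
      rw [this, QuadraticMap.polar_zero_left, Pi.single_eq_same, add_zero]
      have key : ∀ c : ZMod 3, c * (2 * 1 * 1) = -c := by decide
      exact key c
    rw [Matrix.of_apply, h00]
    have hsub : (Matrix.of fun i j : Fin (n + 1) => QuadraticMap.polar (⇑Q') (Pi.single i 1) (Pi.single j 1)).submatrix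
        Fin.succ (Fin.succAbove 0) = Matrix.of fun i j : Fin n => QuadraticMap.polar (⇑Q) (Pi.single i 1) (Pi.single j 1) := by
      ext i j
      simp only [Matrix.submatrix_apply, Fin.succAbove_zero, Matrix.of_apply, hpolar]
      have ht : ∀ k : Fin n, Fin.tail (Pi.single k.succ (1 : ZMod 3) : Fin (n + 1) → ZMod 3) = Pi.single k 1 :=
        fun k => funext fun l => by simp [Fin.tail, Pi.single_apply]
      rw [ht, ht]
      simp [Fin.succ_ne_zero]
    rw [hsub, ← Cfsg.polarGramDet, hμ]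
    simp [mul_comm]
  have hcomm : ∀ (a b : Fin (n + 1) → ZMod 3) (p q : ZMod 3 × (Fin n → ZMod 3)), a = J p → b = J q →
      refl (unitForm Q' c) a b = J (refl (bigForm (unitForm Q c)) p q) := by
    rintro a b p q rfl rfl
    rw [refl_apply, refl_apply, map_sub, map_smul, hJ]
  have hmap : ∀ {p q : ZMod 3 × (Fin n → ZMod 3)}, Sim p q → Sim (J p) (J q) := fun h => h.map J.toLinearMap
  have Cg : Chart D (unitForm Q' c) fun d => J (f d) := by
    refine ⟨fun a ha => (hJ _ _).trans (Cf.unit a ha), fun a ha b hb h => Cf.inj a ha b hb ?_, fun w hw => ?_,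
      fun a ha b hb => ⟨(Cf.op a ha b hb).1, ?_⟩⟩
    · simpa using h.map J.symm.toLinearMap
    · obtain ⟨p, rfl⟩ := J.surjective w
      rw [IsUnitVec, hJ] at hw
      obtain ⟨d, hd, hdp⟩ := Cf.surj p hw
      exact ⟨d, hd, hmap hdp⟩
    · rw [hcomm _ _ (f a) (f b) rfl rfl]
      exact hmap (Cf.op a ha b hb).2
  exact isRefl_of_chart hF (by omega) hQ' hc hdet Cg

end Cfsg.Lib.Fischer.Thm
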