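import Cfsg.Agent.Lib.Fischer.Thm.Refl.Vectors
import Cfsg.Agent.Lib.Fischer.Component
import Cfsg.Agent.Lib.Fischer.Relations.Basic

/-!
# The common neighbours of `x` and a member not commuting with it are the units orthogonal to a singular vector

Two commuting common neighbours give the same vector, since the vectors follow the stabiliser of both and a
transvection product fixing the first vector moves every other one; then every unit orthogonal to the vector
is a common neighbour, as otherwise two commuting members would lie in one pair `{q, cj x q}`.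
-/

set_option autoImplicit false
set_option linter.unusedSectionVars false
set_option linter.unusedSimpArgs false
set_option linter.unusedVariables false
set_option linter.unnecessarySeqFocus false
set_option linter.unreachableTactic false
set_option linter.unusedTactic false

namespace Cfsg.Lib.Fischer.Thm.Refl

open Cfsg.Lib.Fischer

section Linear

variable {V : Type*} [AddCommGroup V] [Module (ZMod 3) V] {B : LinearMap.BilinForm (ZMod 3) V} (hB : Form B)
include hB

/-- A product of two reflections in units spanning the plane of two orthogonal vectors of the other norm. -/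
theorem refl_pair {t q : V} (ht : B t t = 1) (hq : B q q = 1) (htq : B t q = 0) (z : V) :
    IsUnitVec B (t + q) ∧ IsUnitVec B (t - q) ∧
      refl B (t + q) (refl B (t - q) z) = z + B t z • t + B q z • q := by
  have hqt : B q t = 0 := by rw [hB.symm]; exact htq
  refine ⟨?_, ?_, ?_⟩
  · simp only [IsUnitVec, map_add, LinearMap.add_apply, ht, hq, htq, hqt]; decide
  · simp only [IsUnitVec, map_sub, LinearMap.sub_apply, ht, hq, htq, hqt]; decide
  · simp only [refl_apply, map_add, map_sub, map_smul, LinearMap.add_apply, LinearMap.sub_apply,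
      LinearMap.smul_apply, ht, hq, htq, hqt, smul_eq_mul]
    match_scalars <;> first | ring1 | (generalize B t z = a; generalize B q z = b; revert a b; decide)

/-- The product of the reflections in two units differing by a singular vector orthogonal to them. -/
theorem trans_unit {u s : V} (hu : B u u = 0) (hs : B s s = 2) (hus : B u s = 0) (z : V) :
    IsUnitVec B (s + u) ∧ refl B s (refl B (s + u) z) = z + B u z • s - (B s z + B u z) • u := by
  have hsu : B s u = 0 := by rw [hB.symm]; exact hus
  refine ⟨?_, ?_⟩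
  · simp only [IsUnitVec, map_add, LinearMap.add_apply, hu, hs, hus, hsu]; decide
  · simp only [refl_apply, map_add, map_sub, map_smul, LinearMap.add_apply, LinearMap.sub_apply,
      LinearMap.smul_apply, hu, hs, hus, hsu, smul_eq_mul]
    match_scalars <;> first | ring1 | (generalize B s z = a; generalize B u z = b; revert a b; decide)

/-- The same map from four units, for vectors of the other norm. -/
theorem trans_other {u s q : V} (hu : B u u = 0) (hs : B s s = 1) (hq : B q q = 1) (hus : B u s = 0)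
    (huq : B u q = 0) (hsq : B s q = 0) (z : V) :
    IsUnitVec B (s + q) ∧ IsUnitVec B (s - q) ∧ IsUnitVec B (s + u + q) ∧ IsUnitVec B (s + u - q) ∧
      refl B (s + q) (refl B (s - q) (refl B (s + u + q) (refl B (s + u - q) z))) =
        z - B u z • s + (B s z + B u z) • u := by
  have hsu : B s u = 0 := by rw [hB.symm]; exact hus
  have h1 : B (s + u) (s + u) = 1 := by
    simp only [map_add, LinearMap.add_apply, hu, hs, hus, hsu]; decide
  have h2 : B (s + u) q = 0 := by rw [map_add, LinearMap.add_apply, hsq, huq, add_zero]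
  obtain ⟨a1, a2, e1⟩ := refl_pair hB hs hq hsq (refl B (s + u + q) (refl B (s + u - q) z))
  obtain ⟨a3, a4, e2⟩ := refl_pair hB h1 hq h2 z
  refine ⟨a1, a2, a3, a4, ?_⟩
  rw [e1, e2]
  have hqs : B q s = 0 := by rw [hB.symm]; exact hsq
  have hqu : B q u = 0 := by rw [hB.symm]; exact huq
  simp only [map_add, map_smul, LinearMap.add_apply, LinearMap.smul_apply, hs, hq, hsu, hsq, hqs, hqu, smul_eq_mul]
  match_scalars <;>
    first | ring1 | (generalize B s z = a; generalize B u z = b; generalize B q z = c; revert a b c; decide)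

end Linear

variable {V : Type*} [AddCommGroup V] [Module (ZMod 3) V] [Module.Finite (ZMod 3) V]
  {B : LinearMap.BilinForm (ZMod 3) V} {G : Type*} [Group G] [Finite G] {D : Set G} {x : G} {π : G → V}
  (C : Ctx D x B π)

/-- A linear map induced on the neighbours and followed by the vectors. -/
def Act (C : Ctx D x B π) (g : V → V) : Prop :=
  (∀ a b, Sim a b → Sim (g a) (g b)) ∧ ∃ φ : G → G,
    (∀ y ∈ perp D x, φ y ∈ perp D x ∧ Sim (π (φ y)) (g (π y))) ∧
    (∀ d ∈ off D x, φ d ∈ off D x) ∧
    ∀ y ∈ perp D x, ∀ d ∈ off D x, d ∈ perp D y →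
      φ d ∈ perp D (φ y) ∧ Sim (uy C (φ y) (φ d)) (g (uy C y d))

include C

theorem Ctx.act_refl {a : V} (ha : IsUnitVec B a) : Act C (refl B a) := by
  obtain ⟨v, hv, hva⟩ := C.chart.surj a ha
  refine ⟨fun _ _ h => h.map _, cj v, fun y hy => ?_, fun d hd => C.cj_off hv hd, fun y hy d hd hdy => ?_⟩
  · obtain ⟨h1, h2⟩ := C.chart.op v hv y hy
    exact ⟨h1, refl_sim hva ▸ h2⟩
  · rw [← refl_sim hva]
    exact C.uy_equiv hy hd hdy hv

theorem Ctx.act_comp {g g' : V → V} (h : Act C g) (h' : Act C g') : Act C fun z => g (g' z) := by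
  obtain ⟨hg, φ, h1, h2, h3⟩ := h
  obtain ⟨hg', φ', h1', h2', h3'⟩ := h'
  refine ⟨fun a b e => hg _ _ (hg' _ _ e), fun z => φ (φ' z), fun y hy => ?_, fun d hd => h2 _ (h2' d hd),
    fun y hy d hd hdy => ?_⟩
  · obtain ⟨e1, e2⟩ := h1' y hy
    exact ⟨(h1 _ e1).1, (h1 _ e1).2.trans (hg _ _ e2)⟩
  · obtain ⟨e1, e2⟩ := h3' y hy d hd hdy
    obtain ⟨f1, f2⟩ := h3 _ (h1' y hy).1 _ (h2' d hd) e1
    exact ⟨f1, f2.trans (hg _ _ e2)⟩

theorem Ctx.indep_four {u u' a b : V} (hu : IsSing B u) (hu' : IsSing B u') (hne : ¬ Sim u u') (ha : IsUnitVec B a)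
    (hb : IsUnitVec B b) (hab : B a b = 0) (h1 : B a u = 0) (h2 : B a u' = 0) (h3 : B b u = 0) (h4 : B b u' = 0) :
    LinearIndependent (ZMod 3) ![u, u', a, b] := by
  rw [Fintype.linearIndependent_iff]
  intro c hc
  simp only [Fin.sum_univ_four, Matrix.cons_val_zero, Matrix.cons_val_one, Matrix.cons_val] at hc
  have ea := congrArg (B a) hc
  have eb := congrArg (B b) hc
  simp only [map_add, map_smul, map_zero, h1, h2, hab, C.form.symm b a, (show B a a = 2 from ha),
    (show B b b = 2 from hb), h3, h4, smul_eq_mul, mul_zero, zero_add, add_zero] at ea eb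
  have c2 : c 2 = 0 := (mul_eq_zero.1 ea).resolve_right (by decide)
  have c3 : c 3 = 0 := (mul_eq_zero.1 eb).resolve_right (by decide)
  rw [c2, c3, zero_smul, zero_smul, add_zero, add_zero] at hc
  have c1 : c 1 = 0 := by
    by_contra h
    by_cases h0 : c 0 = 0
    · rw [h0, zero_smul, zero_add, smul_eq_zero] at hc
      exact hc.elim h hu'.1
    · refine hne ((sim_smul h0 u).symm.trans ?_)
      rw [eq_neg_of_add_eq_zero_left hc, ← neg_smul]
      exact sim_smul (neg_ne_zero.2 h) u'
  rw [c1, zero_smul, add_zero, smul_eq_zero] at hc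
  intro i
  fin_cases i
  exacts [hc.resolve_right hu.1, c1, c2, c3]

/-- Commuting common neighbours give the same vector. -/
theorem Ctx.uy_eq_of_commute {y w d : G} (hy : y ∈ perp D x) (hw : w ∈ perp D x) (hwy : w ∈ perp D y)
    (hd : d ∈ off D x) (hdy : d ∈ perp D y) (hdw : d ∈ perp D w) : Sim (uy C y d) (uy C w d) := by
  have hB := C.form
  have hD := C.hD
  by_contra hne
  obtain ⟨u, hu⟩ : ∃ u, u = uy C y d := ⟨_, rfl⟩
  obtain ⟨u', hu'⟩ : ∃ u', u' = uy C w d := ⟨_, rfl⟩
  rw [← hu, ← hu'] at hne
  have hus : IsSing B u := hu ▸ C.uy_sing hy hd hdy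
  have hus' : IsSing B u' := hu' ▸ C.uy_sing hw hd hdw
  have hya := C.unit hy
  have hwa := C.unit hw
  have hyw : B (π y) (π w) = 0 := (C.orth_iff hy hw).2 ⟨hwy.2.1.symm, hwy.2.2⟩
  have hyu : B (π y) u = 0 := hu ▸ C.uy_orth hy hd hdy
  have hwu' : B (π w) u' = 0 := hu' ▸ C.uy_orth hw hd hdw
  have hwu : B (π w) u = 0 := hu ▸ (C.uy_commute hy hd hdy hw hwy).1 hdw.2.2
  have hyu' : B (π y) u' = 0 :=
    hu' ▸ (C.uy_commute hw hd hdw hy ⟨hy.1, hwy.2.1.symm, hwy.2.2.symm⟩).1 hdy.2.2
  obtain ⟨s, hus0, hys, hws, hss, hs'⟩ : ∃ s, B u s = 0 ∧ B (π y) s = 0 ∧ B (π w) s = 0 ∧ B s s ≠ 0 ∧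
      (B u u' = 0 → B u' s ≠ 0) := by
    by_cases hβ : B u u' = 0
    · obtain ⟨s0, hs0⟩ := exists_val hB _ (C.indep_four hus hus' hne hya hwa hyw hyu hyu' hwu hwu') ![0, 1, 0, 0]
      have e0 : B u s0 = 0 := by simpa using hs0 0
      have e1 : B u' s0 = 1 := by simpa using hs0 1
      have e2 : B (π y) s0 = 0 := by simpa using hs0 2
      have e3 : B (π w) s0 = 0 := by simpa using hs0 3
      refine ⟨s0 + (B s0 s0 - 1) • u', by rw [map_add, map_smul, e0, hβ, smul_zero, add_zero],
        by rw [map_add, map_smul, e2, hyu', smul_zero, add_zero],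
        by rw [map_add, map_smul, e3, hwu', smul_zero, add_zero], ?_, fun _ => ?_⟩
      · simp only [map_add, map_smul, LinearMap.add_apply, LinearMap.smul_apply, hus'.2, hB.symm s0 u', e1,
          smul_eq_mul, mul_zero, mul_one, add_zero]
        have key : ∀ p : ZMod 3, p + (p - 1) + (p - 1) ≠ 0 := by decide
        exact key _
      · rw [map_add, map_smul, e1, hus'.2, smul_zero, add_zero]; exact one_ne_zero
    · obtain ⟨h1, h2, h3⟩ := plane_basis hB hus.2 hus'.2 hβ
      obtain ⟨s, hs, hss⟩ := exists_nonsing_perp hB ![π y, π w, u + B u u' • u', u - B u u' • u']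
        (by have := C.dim; omega)
        (fun i => by
          fin_cases i <;> simp [-map_add, -map_sub, h1, h2, (show B (π y) (π y) = 2 from hya),
            (show B (π w) (π w) = 2 from hwa)] <;> decide)
        (fun i j hij => by
          have ha : ∀ a, B a u = 0 → B a u' = 0 → B a (u + B u u' • u') = 0 ∧ B a (u - B u u' • u') = 0 :=
            fun a e e' => ⟨by rw [map_add, map_smul, e, e', smul_zero, add_zero],
              by rw [map_sub, map_smul, e, e', smul_zero, sub_zero]⟩
          fin_cases i <;> fin_cases j <;> simp [-map_add, -map_sub] at hij ⊢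
          all_goals first
            | exact hyw
            | exact h3
            | exact (ha _ hyu hyu').1
            | exact (ha _ hyu hyu').2
            | exact (ha _ hwu hwu').1
            | exact (ha _ hwu hwu').2
            | (rw [hB.symm]; exact hyw)
            | (rw [hB.symm]; exact h3)
            | (rw [hB.symm]; exact (ha _ hyu hyu').1)
            | (rw [hB.symm]; exact (ha _ hyu hyu').2)
            | (rw [hB.symm]; exact (ha _ hwu hwu').1)
            | (rw [hB.symm]; exact (ha _ hwu hwu').2))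
      have e2 : B (u + B u u' • u') s = 0 := by simpa [-map_add, -map_sub] using hs 2
      have e3 : B (u - B u u' • u') s = 0 := by simpa [-map_add, -map_sub] using hs 3
      exact ⟨s, (orth_of_plane e2 e3 hβ).1, by simpa using hs 0, by simpa using hs 1, hss, fun h => absurd h hβ⟩
  obtain ⟨g, k, hk, hg, hact⟩ : ∃ (g : V → V) (k : ZMod 3), k ≠ 0 ∧
      (∀ z, g z = z + (k * B u z) • s - (k * (B s z + B u z)) • u) ∧ Act C g := by
    rcases z3_ne hss with h1 | h2
    · set q := π y + π w with hq
      have hqq : B q q = 1 := by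
        simp only [hq, map_add, LinearMap.add_apply, hyw, hB.symm (π w) (π y), (show B (π y) (π y) = 2 from hya),
          (show B (π w) (π w) = 2 from hwa)]
        decide
      have huq : B u q = 0 := by rw [hq, map_add, hB.symm u, hyu, hB.symm u, hwu, add_zero]
      have hsq : B s q = 0 := by rw [hq, map_add, hB.symm s, hys, hB.symm s, hws, add_zero]
      refine ⟨_, -1, neg_ne_zero.2 one_ne_zero, fun z => ?_,
        C.act_comp (C.act_refl (trans_other hB hus.2 h1 hqq hus0 huq hsq 0).1)
          (C.act_comp (C.act_refl (trans_other hB hus.2 h1 hqq hus0 huq hsq 0).2.1)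
            (C.act_comp (C.act_refl (trans_other hB hus.2 h1 hqq hus0 huq hsq 0).2.2.1)
              (C.act_refl (trans_other hB hus.2 h1 hqq hus0 huq hsq 0).2.2.2.1)))⟩
      show refl B _ (refl B _ (refl B _ (refl B _ z))) = _
      rw [(trans_other hB hus.2 h1 hqq hus0 huq hsq z).2.2.2.2]
      module
    · have h2' : B s s = 2 := h2.trans (by decide)
      refine ⟨_, 1, one_ne_zero, fun z => ?_,
        C.act_comp (C.act_refl h2') (C.act_refl (trans_unit hB hus.2 h2' hus0 0).1)⟩
      show refl B _ (refl B _ z) = _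
      rw [(trans_unit hB hus.2 h2' hus0 z).2, one_mul, one_mul]
  obtain ⟨hsim, φ, h1, h2, h3⟩ := hact
  have hgy : ∀ a, B u a = 0 → B s a = 0 → g a = a := fun a e e' => by
    rw [hg, e, e']; simp
  have hfix : ∀ a ∈ perp D x, B u (π a) = 0 → B s (π a) = 0 → φ a = a := fun a ha e e' => by
    refine C.chart.inj _ (h1 a ha).1 a ha ?_
    have := (h1 a ha).2
    rwa [hgy _ e e'] at this
  have hφy : φ y = y := hfix y hy (by rw [hB.symm]; exact hyu) (by rw [hB.symm]; exact hys)
  have hφw : φ w = w := hfix w hw (by rw [hB.symm]; exact hwu) (by rw [hB.symm]; exact hws)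
  obtain ⟨hy1, hy2⟩ := h3 y hy d hd hdy
  obtain ⟨hw1, hw2⟩ := h3 w hw d hd hdw
  rw [hφy] at hy1 hy2
  rw [hφw] at hw1 hw2
  have hgu : g u = u := hgy u hus.2 (by rw [hB.symm]; exact hus0)
  rw [← hu, hgu] at hy2
  rw [← hu'] at hw2
  have hgu' : Sim (g u') u' := by
    rcases C.uy_fibre hy hd hdy (h2 d hd) hy1 (hu ▸ hy2) with e | e
    · rw [e, ← hu'] at hw2
      exact hw2.symm
    · rw [e, C.uy_cjx hw hd hdw, ← hu'] at hw2
      exact hw2.symm.trans (Or.inr rfl)
  rw [hg] at hgu'
  rcases hgu' with e | e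
  · have e' := congrArg (B s) e
    simp only [map_add, map_sub, map_smul, smul_eq_mul, hB.symm s u, hus0, mul_zero, sub_zero, add_eq_left,
      mul_eq_zero, hss, or_false, hk, false_or] at e'
    rw [e'] at e
    simp only [mul_zero, zero_smul, add_zero, sub_eq_self, smul_eq_zero, mul_eq_zero, hk, false_or, hus.1,
      or_false] at e
    exact hs' e' (by rw [hB.symm]; exact e)
  · have e' := congrArg (B u) e
    simp only [map_add, map_sub, map_smul, map_neg, smul_eq_mul, hus0, hus.2, mul_zero, sub_zero, add_zero] at e'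
    have hβ : B u u' = 0 := by
      revert e'
      generalize B u u' = t
      revert t
      decide
    rw [hβ] at e
    simp only [mul_zero, zero_smul, add_zero] at e
    refine hne (Sim.symm ?_)
    have h2u : (2 : ZMod 3) • u' = (k * B s u') • u := by
      rw [two_smul, ← sub_eq_zero]
      calc u' + u' - (k * B s u') • u = (u' - (k * B s u') • u) + u' := by abel
        _ = 0 := by rw [e]; exact neg_add_cancel u'
    refine (sim_smul (show (2 : ZMod 3) ≠ 0 by decide) u').symm.trans ?_
    rw [h2u]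
    exact sim_smul (mul_ne_zero hk (by rw [hB.symm]; exact hs' hβ)) u

theorem Ctx.exists_vector {d : G} (hd : d ∈ off D x) : ∃ u, IsSing B u ∧
    (∀ v ∈ perp D x, Commute d v ↔ B (π v) u = 0) ∧ ∀ v ∈ perp D x, Commute d v → Sim (uy C v d) u := by
  have hB := C.form
  have hD := C.hD
  obtain ⟨y, hy, hyd⟩ := common_nonempty C.hF C.hx hd.1 hd.2
  have hdy := C.perp_of_common hy hd hyd
  set u := uy C y d with hu
  have hus := C.uy_sing hy hd hdy
  have hyu := C.uy_orth hy hd hdy
  have hclose : ∀ v ∈ perp D x, v ≠ y → Commute v y → v ∈ perp D y := fun v hv h h' => ⟨hv.1, h, h'.symm⟩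
  have L2 : ∀ v ∈ perp D x, Commute d v → B (π v) u = 0 → Sim (uy C v d) u := by
    intro v hv hdv h0
    have hdv' := C.perp_of_common hv hd hdv
    by_cases hvy : Commute v y
    · by_cases e : v = y
      · subst e; exact Or.inl rfl
      · exact (C.uy_eq_of_commute hy hv (hclose v hv e hvy) hd hdy hdv').symm
    obtain ⟨ht, hts⟩ := C.chart.op v hv y hy
    obtain ⟨hdt, h1⟩ := C.uy_equiv hy hd hdy hv
    rw [cj_of_commute hD hv.1 hdv.symm] at hdt h1
    rw [← hu, refl_fix h0] at h1
    obtain ⟨-, h2⟩ := C.uy_equiv ht hd hdt hy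
    rw [cj_of_commute hD hy.1 hyd.symm,
      show cj y (cj v y) = v by rw [braid hD hv.1 hy.1 hvy, cj_cj hD hy.1]] at h2
    have h3 := h1.map (refl B (π y))
    rw [refl_fix hyu] at h3
    exact h2.trans h3
  have L3 : ∀ v ∈ perp D x, B (π v) u = 0 → Commute d v := by
    intro v hv h0
    by_contra hdv
    obtain ⟨a, ha, hau, hva⟩ := exists_unit_perp_sing_unit hB C.dim hus (C.unit hv)
    obtain ⟨p, hp, hpa⟩ := C.chart.surj a ha
    have hpu : B (π p) u = 0 := by rw [hpa.orth, hB.symm]; exact hau
    have hvp : B (π v) (π p) = 0 := by rw [hB.symm, hpa.orth, hB.symm]; exact hva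
    have hpv := C.mem_of_orth hp hv (by rw [hB.symm]; exact hvp)
    have hdp : ¬ Commute d p := fun hc => by
      have hdp' := C.perp_of_common hp hd hc
      refine hdv ((C.uy_commute hp hd hdp' hv hpv).2 ?_).symm
      rw [hB.symm, (L2 p hp hc hpu).orth, hB.symm]
      exact h0
    have hny : ∀ z ∈ perp D x, B (π z) u = 0 → ¬ Commute d z → ¬ Commute z y := fun z hz hz0 hdz hzy => by
      have hne : z ≠ y := fun e => hdz (e ▸ hyd)
      exact hdz ((C.uy_commute hy hd hdy hz (hclose z hz hne hzy)).2 hz0).symm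
    have hb : ∀ z ∈ perp D x, ¬ Commute z y → B (π z) (π y) ≠ 0 := fun z hz hn h => hn ((C.orth_iff hz hy).1 h).2
    obtain ⟨ht, hts⟩ := C.chart.op v hv y hy
    obtain ⟨ht', hts'⟩ := C.chart.op p hp y hy
    obtain ⟨hqt, h1⟩ := C.uy_equiv hy hd hdy hv
    obtain ⟨hqt', h1'⟩ := C.uy_equiv hy hd hdy hp
    rw [← hu, refl_fix h0] at h1
    rw [← hu, refl_fix hpu] at h1'
    have htt : B (π (cj v y)) (π (cj p y)) = 0 := by
      rw [hts.orth, hB.symm, hts'.orth]
      simp only [refl_apply, map_sub, map_smul, LinearMap.sub_apply, LinearMap.smul_apply, smul_eq_mul,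
        (show B (π y) (π y) = 2 from C.unit hy), hB.symm (π p) (π v), hvp, hB.symm (π y) (π v), mul_zero, sub_zero]
      rw [hB.symm (π p) (π y)]
      have k1 := hb v hv (hny v hv h0 hdv)
      have k2 := hb p hp (hny p hp hpu hdp)
      rw [hB.symm (π p) (π y)] at k2
      revert k1 k2
      generalize B (π v) (π y) = a
      generalize B (π y) (π p) = b
      revert a b
      decide
    have ht't := C.mem_of_orth ht ht' htt
    have htt' := C.mem_of_orth ht' ht (by rw [hB.symm]; exact htt)
    have hq := C.cj_off hv hd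
    have hq' := C.cj_off hp hd
    have hqt'' : Commute (cj p y) (cj v d) := (C.uy_commute ht hq hqt ht' ht't).2 (by
      rw [hts'.orth, hB.symm, h1.orth, hB.symm, refl_apply, map_sub, map_smul, LinearMap.sub_apply,
        LinearMap.smul_apply, hyu, hpu, smul_zero, sub_zero])
    have hqp : cj v d ∈ perp D (cj p y) := C.perp_of_common ht' hq hqt''.symm
    have h4 := (C.uy_eq_of_commute ht ht' ht't hq hqt hqp).symm.trans h1
    have hvpc : Commute v p := hpv.2.2.symm
    have hqq : Commute (cj v d) (cj p d) := by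
      rw [← braid hD hd.1 hv.1 hdv, ← braid hD hd.1 hp.1 hdp]
      exact (commute_cj hD hd.1).2 hvpc
    rcases C.uy_fibre ht' hq' hqt' hq hqp (h4.trans h1'.symm) with e | e
    · exact hpv.2.1 (Relations.eq_of_cj_eq hD hv.1 hp.1 hd.1 hdv hdp e)
    · rw [e] at hqq
      exact not_commute_cj' hD C.hx hq'.1 hq'.2 hqq.symm
  refine ⟨u, hus, fun v hv => ⟨fun hdv => ?_, L3 v hv⟩, fun v hv hdv => ?_⟩
  · by_contra h0
    obtain ⟨a, ha, hau, hva⟩ := exists_unit_perp_sing_unit hB C.dim hus (C.unit hv)
    obtain ⟨p, hp, hpa⟩ := C.chart.surj a ha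
    have hpu : B (π p) u = 0 := by rw [hpa.orth, hB.symm]; exact hau
    have hdp := L3 p hp hpu
    have hpv := C.mem_of_orth hp hv (by rw [hpa.orth, hB.symm]; exact hva)
    have h1 := (C.uy_commute hp hd (C.perp_of_common hp hd hdp) hv hpv).1 hdv.symm
    rw [hB.symm, (L2 p hp hdp hpu).orth, hB.symm] at h1
    exact h0 h1
  · refine L2 v hv hdv ?_
    by_contra h0
    obtain ⟨a, ha, hau, hva⟩ := exists_unit_perp_sing_unit hB C.dim hus (C.unit hv)
    obtain ⟨p, hp, hpa⟩ := C.chart.surj a ha
    have hpu : B (π p) u = 0 := by rw [hpa.orth, hB.symm]; exact hau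
    have hdp := L3 p hp hpu
    have hpv := C.mem_of_orth hp hv (by rw [hpa.orth, hB.symm]; exact hva)
    have h1 := (C.uy_commute hp hd (C.perp_of_common hp hd hdp) hv hpv).1 hdv.symm
    rw [hB.symm, (L2 p hp hdp hpu).orth, hB.symm] at h1
    exact h0 h1

end Cfsg.Lib.Fischer.Thm.Refl
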