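import Cfsg.Agent.Lib.Fischer.Thm.Refl.Space

/-!
# Singular vectors meeting given ones
-/

set_option autoImplicit false
set_option linter.unusedSectionVars false
set_option linter.unusedSimpArgs false
set_option linter.unnecessarySeqFocus false

namespace Cfsg.Lib.Fischer.Thm.Refl

variable {V : Type*} [AddCommGroup V] [Module (ZMod 3) V] [Module.Finite (ZMod 3) V]
  {B : LinearMap.BilinForm (ZMod 3) V} (hB : Form B)

theorem indep_pair {u u' : V} (hu : u ≠ 0) (hu' : u' ≠ 0) (hne : ¬ Sim u u') :
    LinearIndependent (ZMod 3) ![u, u'] := by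
  rw [LinearIndependent.pair_iff]
  intro s t hst
  by_cases ht : t = 0
  · rw [ht, zero_smul, add_zero, smul_eq_zero] at hst
    exact ⟨hst.resolve_right hu, ht⟩
  · exfalso
    by_cases hs : s = 0
    · rw [hs, zero_smul, zero_add, smul_eq_zero] at hst
      exact hst.elim ht hu'
    · refine hne ((sim_smul hs u).symm.trans ?_)
      rw [eq_neg_of_add_eq_zero_left hst, ← neg_smul]
      exact sim_smul (neg_ne_zero.2 ht) u'

include hB

theorem isSing_of {u z : V} (hu : B u z ≠ 0) (hz : B z z = 0) : IsSing B z :=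
  ⟨fun h => hu (by rw [h, map_zero]), hz⟩

/-- Adding a multiple of a singular vector makes a vector meeting it singular. -/
theorem exists_singular {u z : V} (hu : B u u = 0) (h : B u z ≠ 0) :
    ∃ k : ZMod 3, B (z + k • u) (z + k • u) = 0 := by
  refine ⟨B z z * B u z, ?_⟩
  simp only [map_add, map_smul, LinearMap.add_apply, LinearMap.smul_apply, hu, hB.symm z u, smul_eq_mul,
    mul_zero, add_zero]
  revert h
  generalize B z z = p
  generalize B u z = q
  revert p q
  decide

/-- A singular vector meeting two given ones. -/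
theorem exists_sing_meet_two {u u' : V} (hV : 4 ≤ Module.finrank (ZMod 3) V) (hu : IsSing B u) (hu' : IsSing B u') :
    ∃ z, IsSing B z ∧ B u z ≠ 0 ∧ B u' z ≠ 0 := by
  by_cases hs : Sim u u'
  · obtain ⟨f, hf, hff⟩ := exists_partner hB hu
    have h0 : B u f ≠ 0 := hf ▸ one_ne_zero
    exact ⟨f, isSing_of hB h0 hff, h0, fun e => h0 (hs.orth.2 e)⟩
  by_cases hβ : B u u' = 0
  · obtain ⟨z, hz⟩ := exists_val hB ![u, u'] (indep_pair hu.1 hu'.1 hs) ![1, 1]
    have e0 : B u z = 1 := by simpa using hz 0
    have e1 : B u' z = 1 := by simpa using hz 1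
    obtain ⟨k, hk⟩ := exists_singular hB hu.2 (e0 ▸ one_ne_zero)
    have h0 : B u (z + k • u) = 1 := by rw [map_add, map_smul, e0, hu.2, smul_zero, add_zero]
    refine ⟨z + k • u, isSing_of hB (h0 ▸ one_ne_zero) hk, h0 ▸ one_ne_zero, ?_⟩
    rw [map_add, map_smul, e1, hB.symm u' u, hβ, smul_zero, add_zero]
    exact one_ne_zero
  · obtain ⟨h1, h2, h3⟩ := plane_basis hB hu.2 hu'.2 hβ
    obtain ⟨t, ht, htt⟩ := exists_norm_perp hB ![u + B u u' • u', u - B u u' • u'] (by omega)
      (fun i => by fin_cases i <;> simp [-map_add, -map_sub, h1, h2] <;> decide)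
      (fun i j hij => by
        fin_cases i <;> fin_cases j <;> simp [-map_add, -map_sub] at hij ⊢
        · exact h3
        · rw [hB.symm]; exact h3) (t := B u u') hβ
    obtain ⟨t1, t2⟩ := orth_of_plane (by simpa [-map_add, -map_sub] using ht 0)
      (by simpa [-map_add, -map_sub] using ht 1) hβ
    have h0 : B u (u + u' + t) ≠ 0 := by
      rw [map_add, map_add, hu.2, t1, zero_add, add_zero]; exact hβ
    refine ⟨u + u' + t, isSing_of hB h0 ?_, h0, ?_⟩
    · simp only [map_add, LinearMap.add_apply, hu.2, hu'.2, htt, hB.symm t u, hB.symm t u', t1, t2, hB.symm u' u,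
        zero_add, add_zero]
      have key : ∀ b : ZMod 3, b + b + b = 0 := by decide
      exact key _
    · rw [map_add, map_add, hu'.2, t2, hB.symm u' u, add_zero, add_zero]; exact hβ

/-- A singular vector meeting three given ones, the first orthogonal to the other two. -/
theorem exists_sing_meet_three {u u' u'' : V} (hu : IsSing B u) (hu' : IsSing B u') (hu'' : IsSing B u'')
    (h1 : B u u' = 0) (h2 : B u u'' = 0) (h : B u' u'' ≠ 0) :
    ∃ z, IsSing B z ∧ B u z ≠ 0 ∧ B u' z ≠ 0 ∧ B u'' z ≠ 0 := by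
  have hind : LinearIndependent (ZMod 3) ![u, u', u''] := by
    rw [Fintype.linearIndependent_iff]
    intro c hc
    simp only [Fin.sum_univ_three, Matrix.cons_val_zero, Matrix.cons_val_one, Matrix.cons_val] at hc
    have e1 := congrArg (B u') hc
    have e2 := congrArg (B u'') hc
    simp only [map_add, map_smul, map_zero, hB.symm u' u, hB.symm u'' u, h1, h2, hu'.2, hu''.2, hB.symm u'' u',
      smul_eq_mul, mul_zero, zero_add, add_zero, mul_eq_zero, h, or_false] at e1 e2
    rw [e1, e2, zero_smul, zero_smul, add_zero, add_zero, smul_eq_zero] at hc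
    intro i
    fin_cases i
    exacts [hc.resolve_right hu.1, e2, e1]
  obtain ⟨z, hz⟩ := exists_val hB _ hind ![1, 1, 1]
  have e0 : B u z = 1 := by simpa using hz 0
  have e1 : B u' z = 1 := by simpa using hz 1
  have e2 : B u'' z = 1 := by simpa using hz 2
  obtain ⟨k, hk⟩ := exists_singular hB hu.2 (e0 ▸ one_ne_zero)
  have h0 : B u (z + k • u) = 1 := by rw [map_add, map_smul, e0, hu.2, smul_zero, add_zero]
  refine ⟨z + k • u, isSing_of hB (h0 ▸ one_ne_zero) hk, h0 ▸ one_ne_zero, ?_, ?_⟩
  · rw [map_add, map_smul, e1, hB.symm u' u, h1, smul_zero, add_zero]; exact one_ne_zero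
  · rw [map_add, map_smul, e2, hB.symm u'' u, h2, smul_zero, add_zero]; exact one_ne_zero

/-- Singular vectors meeting two orthogonal ones are joined by chains of non-orthogonal ones. -/
theorem sing_path {u u' p p' : V} (hV : 4 ≤ Module.finrank (ZMod 3) V) (hu : IsSing B u) (hu' : IsSing B u') (hβ : B u u' = 0)
    (hp : IsSing B p) (hp' : IsSing B p') (h1 : B u p ≠ 0) (h2 : B u' p ≠ 0) (h3 : B u p' ≠ 0)
    (h4 : B u' p' ≠ 0) :
    Relation.ReflTransGen (fun z z' => B z z' ≠ 0 ∧ (IsSing B z' ∧ B u z' ≠ 0 ∧ B u' z' ≠ 0)) p p' := by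
  set R := fun z z' => B z z' ≠ 0 ∧ (IsSing B z' ∧ B u z' ≠ 0 ∧ B u' z' ≠ 0)
  by_cases hs : Sim u u'
  · by_cases hpp : B p p' = 0
    swap
    · exact Relation.ReflTransGen.single ⟨hpp, hp', h3, h4⟩
    by_cases hsp : Sim p p'
    · obtain ⟨z, hz, hn1, hn2⟩ := exists_sing_meet_two hB hV hu hp
      exact Relation.ReflTransGen.head ⟨hn2, hz, hn1, fun e => hn1 (hs.orth.2 e)⟩
        (Relation.ReflTransGen.single ⟨by rw [hB.symm]; exact fun e => hn2 (hsp.orth.2 e), hp', h3, h4⟩)
    have hind : LinearIndependent (ZMod 3) ![u, p, p'] := by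
      rw [Fintype.linearIndependent_iff]
      intro c hc
      simp only [Fin.sum_univ_three, Matrix.cons_val_zero, Matrix.cons_val_one, Matrix.cons_val] at hc
      have e1 := congrArg (B p) hc
      simp only [map_add, map_smul, map_zero, hB.symm p u, hp.2, hpp, smul_eq_mul, mul_zero, add_zero,
        mul_eq_zero, h1, or_false] at e1
      rw [e1, zero_smul, zero_add] at hc
      obtain ⟨c1, c2⟩ := LinearIndependent.pair_iff.1 (indep_pair hp.1 hp'.1 hsp) _ _ hc
      intro i
      fin_cases i
      exacts [e1, c1, c2]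
    obtain ⟨w, hw⟩ := exists_val hB _ hind ![0, B u p, -B u p']
    have e0 : B u w = 0 := by simpa using hw 0
    have e1 : B p w = B u p := by simpa using hw 1
    have e2 : B p' w = -B u p' := by simpa using hw 2
    obtain ⟨k, l, hk, hn1, hn2, hn3⟩ : ∃ k l : ZMod 3,
        B (w + k • p + l • p') (w + k • p + l • p') = 0 ∧ B u (w + k • p + l • p') ≠ 0 ∧
          B p (w + k • p + l • p') ≠ 0 ∧ B p' (w + k • p + l • p') ≠ 0 := by
      simp only [map_add, map_smul, LinearMap.add_apply, LinearMap.smul_apply, hp.2, hp'.2, hB.symm w p,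
        hB.symm w p', hB.symm p' p, hpp, e0, e1, e2, smul_eq_mul]
      revert h1 h3
      generalize B u p = a
      generalize B u p' = b
      generalize B w w = q
      revert a b q
      decide
    exact Relation.ReflTransGen.head ⟨hn2, isSing_of hB hn1 hk, hn1, fun e => hn1 (hs.orth.2 e)⟩
      (Relation.ReflTransGen.single ⟨by rw [hB.symm]; exact hn3, hp', h3, h4⟩)
  have chain : ∀ p p' : V, IsSing B p → IsSing B p' → B u p ≠ 0 → B u' p ≠ 0 → B u p' ≠ 0 → B u' p' ≠ 0 →
      B u p' * B u' p - B u' p' * B u p ≠ 0 → Relation.ReflTransGen R p p' := by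
    intro p p' hp hp' h1 h2 h3 h4 hδ
    by_cases hpp : B p p' = 0
    swap
    · exact Relation.ReflTransGen.single ⟨hpp, hp', h3, h4⟩
    set r₁ := p' + (B u p' • u' - B u' p' • u) with hr₁
    set r₂ := p - (B u p • u' - B u' p • u) with hr₂
    have a1 : B u r₁ = B u p' := by
      simp only [hr₁, map_add, map_sub, map_smul, hu.2, hβ, smul_zero, sub_zero, add_zero]
    have a2 : B u' r₁ = B u' p' := by
      simp only [hr₁, map_add, map_sub, map_smul, hu'.2, hB.symm u' u, hβ, smul_zero, sub_zero, add_zero]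
    have b1 : B u r₂ = B u p := by
      simp only [hr₂, map_add, map_sub, map_smul, hu.2, hβ, smul_zero, sub_zero]
    have b2 : B u' r₂ = B u' p := by
      simp only [hr₂, map_add, map_sub, map_smul, hu'.2, hB.symm u' u, hβ, smul_zero, sub_zero]
    have s1 : B r₁ r₁ = 0 := by
      simp only [hr₁, map_add, map_sub, map_smul, LinearMap.add_apply, LinearMap.sub_apply, LinearMap.smul_apply,
        hu.2, hu'.2, hp'.2, hβ, hB.symm u' u, hB.symm p' u, hB.symm p' u', smul_eq_mul]
      ring
    have s2 : B r₂ r₂ = 0 := by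
      simp only [hr₂, map_add, map_sub, map_smul, LinearMap.add_apply, LinearMap.sub_apply, LinearMap.smul_apply,
        hu.2, hu'.2, hp.2, hβ, hB.symm u' u, hB.symm p u, hB.symm p u', smul_eq_mul]
      ring
    have e1 : B p r₁ = B u p' * B u' p - B u' p' * B u p := by
      simp only [hr₁, map_add, map_sub, map_smul, hpp, hB.symm p u, hB.symm p u', smul_eq_mul, zero_add]
    have e2 : B r₁ r₂ ≠ 0 := by
      simp only [hr₁, hr₂, map_add, map_sub, map_smul, LinearMap.add_apply, LinearMap.sub_apply,
        LinearMap.smul_apply, hu.2, hu'.2, hβ, hB.symm u' u, hB.symm p' p, hpp, hB.symm p' u, hB.symm p' u',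
        smul_eq_mul]
      revert hδ
      generalize B u p = a
      generalize B u' p = b
      generalize B u p' = a'
      generalize B u' p' = b'
      revert a b a' b'
      decide
    have e3 : B r₂ p' ≠ 0 := by
      simp only [hr₂, map_sub, map_smul, LinearMap.sub_apply, LinearMap.smul_apply, hpp, smul_eq_mul]
      revert hδ
      generalize B u p = a
      generalize B u' p = b
      generalize B u p' = a'
      generalize B u' p' = b'
      revert a b a' b'
      decide
    exact Relation.ReflTransGen.head ⟨e1 ▸ hδ, isSing_of hB (a1 ▸ h3) s1, a1 ▸ h3, a2 ▸ h4⟩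
      (Relation.ReflTransGen.head ⟨e2, isSing_of hB (b1 ▸ h1) s2, b1 ▸ h1, b2 ▸ h2⟩
        (Relation.ReflTransGen.single ⟨e3, hp', h3, h4⟩))
  by_cases hδ : B u p' * B u' p - B u' p' * B u p = 0
  · obtain ⟨z, hz⟩ := exists_val hB ![u, u'] (indep_pair hu.1 hu'.1 hs) ![B u p, -B u' p]
    have e0 : B u z = B u p := by simpa using hz 0
    have e1 : B u' z = -B u' p := by simpa using hz 1
    obtain ⟨k, hk⟩ := exists_singular hB hu.2 (e0 ▸ h1)
    have a1 : B u (z + k • u) = B u p := by rw [map_add, map_smul, e0, hu.2, smul_zero, add_zero]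
    have a2 : B u' (z + k • u) = -B u' p := by
      rw [map_add, map_smul, e1, hB.symm u' u, hβ, smul_zero, add_zero]
    have hr := isSing_of hB (a1 ▸ h1) hk
    have hn : B u' (z + k • u) ≠ 0 := by rw [a2]; exact neg_ne_zero.2 h2
    refine (chain p _ hp hr h1 h2 (a1 ▸ h1) hn ?_).trans (chain _ p' hr hp' (a1 ▸ h1) hn h3 h4 ?_)
    all_goals
      rw [a1, a2]
      revert hδ h1 h2 h3 h4
      generalize B u p = a
      generalize B u' p = b
      generalize B u p' = a'
      generalize B u' p' = b'
      revert a b a' b'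
      decide
  · exact chain p p' hp hp' h1 h2 h3 h4 hδ

end Cfsg.Lib.Fischer.Thm.Refl
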