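import Cfsg.Agent.Lib.Fischer.Thm.Refl.Charts
import Cfsg.Agent.Lib.Fischer.RankThree
import Cfsg.Agent.Lib.Fischer.Classes

/-!
# The chart at a neighbour of a member

The neighbours of `x` are charted by the units of `V`; the neighbours of one of them, `y`, are then charted by
the units of `ZMod 3 × V` orthogonal to `(0, π y)`, extending the chart on common neighbours.
-/

set_option autoImplicit false
set_option linter.unusedSectionVars false
set_option linter.unusedSimpArgs false
set_option linter.unusedVariables false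

namespace Cfsg.Lib.Fischer.Thm.Refl

open Cfsg.Lib.Fischer

variable {V : Type*} [AddCommGroup V] [Module (ZMod 3) V]

/-- The form on `ZMod 3 × V`. -/
noncomputable def bigForm (B : LinearMap.BilinForm (ZMod 3) V) : LinearMap.BilinForm (ZMod 3) (ZMod 3 × V) :=
  (LinearMap.mul (ZMod 3) (ZMod 3)).compl₁₂ ((2 : ZMod 3) • LinearMap.fst (ZMod 3) (ZMod 3) V)
      (LinearMap.fst (ZMod 3) (ZMod 3) V) +
    B.compl₁₂ (LinearMap.snd (ZMod 3) (ZMod 3) V) (LinearMap.snd (ZMod 3) (ZMod 3) V)

theorem bigForm_apply (B : LinearMap.BilinForm (ZMod 3) V) (p q : ZMod 3 × V) :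
    bigForm B p q = 2 * p.1 * q.1 + B p.2 q.2 := by
  simp [bigForm]

variable {B : LinearMap.BilinForm (ZMod 3) V} (hB : Form B)

include hB in
theorem bigForm_form : Form (bigForm B) := by
  refine ⟨fun p q => by rw [bigForm_apply, bigForm_apply, hB.symm p.2 q.2]; ring, fun p hp => ?_⟩
  have h1 := hp (1, 0)
  simp only [bigForm_apply, map_zero, mul_one, add_zero] at h1
  have h2 : p.2 = 0 := hB.nondeg _ fun w => by simpa [bigForm_apply] using hp (0, w)
  have key : ∀ t : ZMod 3, 2 * t = 0 → t = 0 := by decide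
  exact Prod.ext (key _ h1) h2

/-- Projection to the orthogonal space of a unit. -/
noncomputable def proj {a : V} (ha : IsUnitVec B a) : V →ₗ[ZMod 3] LinearMap.ker (B a) :=
  LinearMap.codRestrict _ (LinearMap.id + (B a).smulRight a) fun v => by
    simp only [LinearMap.mem_ker, LinearMap.add_apply, LinearMap.id_apply, LinearMap.smulRight_apply, map_add,
      map_smul, (show B a a = 2 from ha), smul_eq_mul]
    have key : ∀ t : ZMod 3, t + t * 2 = 0 := by decide
    exact key _

theorem proj_val {a : V} (ha : IsUnitVec B a) (v : V) : (proj ha v : V) = v + B a v • a := rfl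

theorem proj_fix {a v : V} (ha : IsUnitVec B a) (h : B a v = 0) : (proj ha v : V) = v := by
  rw [proj_val, h, zero_smul, add_zero]

theorem proj_self {a : V} (ha : IsUnitVec B a) : proj ha a = 0 := by
  refine Subtype.ext ?_
  rw [proj_val, (ha : B a a = 2), two_smul, ← add_assoc]
  show a + a + a = 0
  rw [show a + a + a = ((1 : ZMod 3) + 1 + 1) • a by rw [add_smul, add_smul, one_smul],
    show (1 : ZMod 3) + 1 + 1 = 0 by decide, zero_smul]

/-- The form on the orthogonal space of a unit. -/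
noncomputable def kerForm (B : LinearMap.BilinForm (ZMod 3) V) (a : V) :
    LinearMap.BilinForm (ZMod 3) (LinearMap.ker (B a)) :=
  B.compl₁₂ (LinearMap.ker (B a)).subtype (LinearMap.ker (B a)).subtype

theorem kerForm_apply (a : V) (p q : LinearMap.ker (B a)) : kerForm B a p q = B p q := rfl

include hB

theorem kerForm_form {a : V} (ha : IsUnitVec B a) : Form (kerForm B a) := by
  refine ⟨fun p q => hB.symm _ _, fun p hp => Subtype.ext (hB.nondeg _ fun w => ?_)⟩
  have h := hp (proj ha w)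
  rw [kerForm_apply, proj_val, map_add, map_smul, hB.symm p a, LinearMap.mem_ker.1 p.2, smul_zero, add_zero] at h
  exact h

theorem proj_form {a : V} (ha : IsUnitVec B a) (v w : V) :
    kerForm B a (proj ha v) (proj ha w) = B v w + B a v * B a w := by
  rw [kerForm_apply, proj_val, proj_val]
  simp only [map_add, map_smul, LinearMap.add_apply, LinearMap.smul_apply, hB.symm v a, (show B a a = 2 from ha),
    smul_eq_mul]
  have key : ∀ x y z : ZMod 3, z + x * y + (y * x + y * (x * 2)) = z + x * y := by decide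
  linear_combination key (B a v) (B a w) (B v w)

omit hB in
theorem finrank_ker [Module.Finite (ZMod 3) V] {n : ℕ} (hV : n + 1 ≤ Module.finrank (ZMod 3) V) (a : V) :
    n ≤ Module.finrank (ZMod 3) (LinearMap.ker (B a)) := by
  have h := LinearMap.finrank_range_add_finrank_ker (B a)
  have h' : Module.finrank (ZMod 3) (LinearMap.range (B a)) ≤ 1 :=
    (Submodule.finrank_le _).trans (le_of_eq (Module.finrank_self _))
  omega

omit hB

variable {G : Type*} [Group G] {D S : Set G} {f : G → V}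

include hB in
/-- A chart restricts to the neighbours of one of its members. -/
theorem Chart.restrict (hD : Trans D) (hS : S ⊆ D) (C : Chart S B f) {a₀ : G} (h₀ : a₀ ∈ S) :
    Chart {z | z ∈ S ∧ z ≠ a₀ ∧ Commute a₀ z} (kerForm B (f a₀)) fun z => proj (C.unit a₀ h₀) (f z) := by
  have horth : ∀ z ∈ {z | z ∈ S ∧ z ≠ a₀ ∧ Commute a₀ z}, B (f a₀) (f z) = 0 := fun z hz =>
    (C.orth_iff hD hS hB h₀ hz.1).2 ⟨hz.2.1.symm, hz.2.2⟩
  refine ⟨fun a ha => ?_, fun a ha b hb h => ?_, fun v hv => ?_, fun a ha b hb => ?_⟩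
  · rw [IsUnitVec, proj_form hB, horth a ha, mul_zero, add_zero]
    exact C.unit a ha.1
  · refine C.inj a ha.1 b hb.1 ?_
    have h' := h.map (LinearMap.ker (B (f a₀))).subtype
    simpa only [Submodule.subtype_apply, proj_fix _ (horth a ha), proj_fix _ (horth b hb)] using h'
  · obtain ⟨z, hz, hzv⟩ := C.surj v hv
    have h0 : B (f a₀) (f z) = 0 := by
      rw [hB.symm]; exact hzv.orth.2 (by rw [hB.symm]; exact LinearMap.mem_ker.1 v.2)
    obtain ⟨h1, h2⟩ := (C.orth_iff hD hS hB h₀ hz).1 h0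
    refine ⟨z, ⟨hz, h1.symm, h2⟩, ?_⟩
    have e := hzv
    rw [← proj_fix (C.unit a₀ h₀) h0] at e
    rcases e with e | e
    · exact Or.inl (Subtype.ext e)
    · exact Or.inr (Subtype.ext e)
  · obtain ⟨hm, hs⟩ := C.op a ha.1 b hb.1
    have h0 : B (f a₀) (f (cj a b)) = 0 := by
      rw [hB.symm]
      refine hs.orth.2 ?_
      rw [hB.symm, refl_apply, map_sub, map_smul, horth a ha, horth b hb, smul_zero, sub_zero]
    obtain ⟨h1, h2⟩ := (C.orth_iff hD hS hB h₀ hm).1 h0
    refine ⟨⟨hm, h1.symm, h2⟩, ?_⟩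
    have e : ((refl (kerForm B (f a₀)) (proj (C.unit a₀ h₀) (f a)) (proj (C.unit a₀ h₀) (f b))) : V) =
        refl B (f a) (f b) := by
      rw [refl_apply, Submodule.coe_sub, Submodule.coe_smul, kerForm_apply, proj_fix _ (horth a ha),
        proj_fix _ (horth b hb), refl_apply]
    rcases hs with h | h
    · exact Or.inl (Subtype.ext (by rw [proj_fix _ h0, e, h]))
    · exact Or.inr (Subtype.ext (by rw [proj_fix _ h0, Submodule.coe_neg, e, h]))

variable [Finite G]

/-- The standing hypotheses. -/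
structure Ctx (D : Set G) (x : G) (B : LinearMap.BilinForm (ZMod 3) V) (π : G → V) : Prop where
  hF : IsFischer D
  hx : x ∈ D
  form : Form B
  chart : Chart (perp D x) B π
  dim : 5 ≤ Module.finrank (ZMod 3) V

/-- The members not commuting with `x`. -/
def off (D : Set G) (x : G) : Set G := {d | d ∈ D ∧ ¬ Commute x d}

/-- A chart of the neighbours of `y`. -/
structure YChart (D : Set G) (x y : G) (B : LinearMap.BilinForm (ZMod 3) V) (π : G → V)
    (h : G → ZMod 3 × V) : Prop where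
  unit : ∀ a ∈ perp D y, IsUnitVec (bigForm B) (h a)
  orth : ∀ a ∈ perp D y, B (π y) (h a).2 = 0
  inj : ∀ a ∈ perp D y, ∀ b ∈ perp D y, Sim (h a) (h b) → a = b
  surj : ∀ z, IsUnitVec (bigForm B) z → B (π y) z.2 = 0 → ∃ a ∈ perp D y, Sim (h a) z
  op : ∀ a ∈ perp D y, ∀ b ∈ perp D y,
    cj a b ∈ perp D y ∧ Sim (h (cj a b)) (refl (bigForm B) (h a) (h b))
  comm : ∀ a ∈ perp D y, ∀ b ∈ perp D y, a ≠ b → (Commute a b ↔ bigForm B (h a) (h b) = 0)
  base : Sim (h x) ((1 : ZMod 3), (0 : V))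
  ext : ∀ v ∈ perp D x, v ∈ perp D y → Sim (h v) ((0 : ZMod 3), π v)

variable {x : G} {π : G → V} [Module.Finite (ZMod 3) V]

theorem Ctx.sub (C : Ctx D x B π) : perp D x ⊆ D := fun _ h => h.1

theorem exists_ychart (C : Ctx D x B π) {y : G} (hy : y ∈ perp D x) : ∃ h, YChart D x y B π h := by
  have hD := C.hF.toTrans
  have hB := C.form
  obtain ⟨g, hg⟩ := C.hF.trans y hy.1 x C.hx
  set ψ : G → V := fun z => π (g * z * g⁻¹) with hψ
  have hmem : ∀ z, z ∈ perp D y ↔ g * z * g⁻¹ ∈ perp D x := fun z => by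
    have := mem_perp_conj hD g y (g * z * g⁻¹)
    rw [hg] at this
    rw [this]
    simp [mul_assoc]
  have hcj : ∀ a b : G, g * cj a b * g⁻¹ = cj (g * a * g⁻¹) (g * b * g⁻¹) := fun a b => by
    simp [cj_def, mul_assoc]
  have hCψ : Chart (perp D y) B ψ := by
    refine ⟨fun a ha => C.chart.unit _ ((hmem a).1 ha), fun a ha b hb h => ?_, fun v hv => ?_, fun a ha b hb => ?_⟩
    · simpa using C.chart.inj _ ((hmem a).1 ha) _ ((hmem b).1 hb) h
    · obtain ⟨a, ha, hav⟩ := C.chart.surj v hv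
      refine ⟨g⁻¹ * a * g, (hmem _).2 (by simpa [mul_assoc] using ha), ?_⟩
      simpa [hψ, mul_assoc] using hav
    · obtain ⟨h1, h2⟩ := C.chart.op _ ((hmem a).1 ha) _ ((hmem b).1 hb)
      rw [← hcj] at h1 h2
      exact ⟨(hmem _).2 h1, h2⟩
  have hxy : x ∈ perp D y := ⟨C.hx, hy.2.1.symm, hy.2.2.symm⟩
  have hDy : perp D y ⊆ D := fun _ h => h.1
  have hw := hCψ.unit x hxy
  have C₁ := hCψ.restrict hB hD hDy hxy
  have C₂ := C.chart.restrict hB hD C.sub hy
  set S' := {z | z ∈ perp D y ∧ z ≠ x ∧ Commute x z}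
  have hS : S' = {z | z ∈ perp D x ∧ z ≠ y ∧ Commute y z} := by
    ext z
    exact ⟨fun h => ⟨⟨h.1.1, h.2.1, h.2.2⟩, h.1.2.1, h.1.2.2⟩, fun h => ⟨⟨h.1.1, h.2.1, h.2.2⟩, h.1.2.1, h.1.2.2⟩⟩
  rw [← hS] at C₂
  obtain ⟨L, hL, hLs⟩ := C₁.exists_isometry hD (fun z hz => hz.1.1) (kerForm_form hB hw)
    (kerForm_form hB (C.chart.unit y hy)) C₂ (finrank_ker (by have := C.dim; omega) _)
    (finrank_ker (by have := C.dim; omega) _)
  let j : V →ₗ[ZMod 3] ZMod 3 × V := LinearMap.prod (-(B (ψ x)))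
    ((LinearMap.ker (B (π y))).subtype.comp (L.toLinearMap.comp (proj hw)))
  have hj : ∀ v, j v = (-(B (ψ x) v), (L (proj hw v) : V)) := fun v => rfl
  have hjform : ∀ v v', bigForm B (j v) (j v') = B v v' := by
    intro v v'
    rw [hj, hj, bigForm_apply, ← kerForm_apply, hL, proj_form hB hw]
    have key : ∀ p q r : ZMod 3, 2 * -p * -q + (r + p * q) = r := by decide
    exact key _ _ _
  have hjorth : ∀ v, B (π y) (j v).2 = 0 := fun v => LinearMap.mem_ker.1 (L (proj hw v)).2
  have hjinj : Function.Injective j := by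
    rw [injective_iff_map_eq_zero]
    intro v hv
    refine hB.nondeg v fun w => ?_
    rw [← hjform, hv, map_zero, LinearMap.zero_apply]
  refine ⟨fun z => j (ψ z), ⟨fun a ha => (hjform _ _).trans (hCψ.unit a ha), fun a _ => hjorth _,
    fun a ha b hb h => hCψ.inj a ha b hb ?_, fun z hz hzy => ?_, fun a ha b hb => ?_, fun a ha b hb hne => ?_,
    Or.inl ?_, fun v hvx hvy => ?_⟩⟩
  · rcases h with h | h
    · exact Or.inl (hjinj h)
    · exact Or.inr (hjinj (h.trans (map_neg j _).symm))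
  · let u₀ := L.symm ⟨z.2, LinearMap.mem_ker.2 hzy⟩
    have e : j (z.1 • ψ x + (u₀ : V)) = z := by
      rw [hj, map_add, map_add, map_smul, map_smul, (hw : B (ψ x) (ψ x) = 2), LinearMap.mem_ker.1 u₀.2, proj_self,
        smul_zero, zero_add, add_zero, show proj hw (u₀ : V) = u₀ from Subtype.ext (proj_fix _ (LinearMap.mem_ker.1 u₀.2)),
        show L u₀ = ⟨z.2, LinearMap.mem_ker.2 hzy⟩ from L.apply_symm_apply _, smul_eq_mul]
      have key : ∀ t : ZMod 3, -(t * 2) = t := by decide
      rw [key]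
    obtain ⟨a, ha, hav⟩ := hCψ.surj _ (show IsUnitVec B (z.1 • ψ x + (u₀ : V)) by
      rw [IsUnitVec, ← hjform, e]; exact hz)
    exact ⟨a, ha, e ▸ hav.map j⟩
  · obtain ⟨h1, h2⟩ := hCψ.op a ha b hb
    refine ⟨h1, ?_⟩
    have e := h2.map j
    rwa [refl_apply, map_sub, map_smul, ← hjform, ← refl_apply] at e
  · rw [hjform]
    exact hCψ.commute_iff hD hDy hB ha hb hne
  · show j (ψ x) = _
    rw [hj, (hw : B (ψ x) (ψ x) = 2), proj_self, map_zero]
    exact Prod.ext (show -(2 : ZMod 3) = 1 by decide) rfl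
  · show Sim (j (ψ v)) _
    have hv' : v ∈ S' := ⟨hvy, hvx.2.1, hvx.2.2⟩
    have h0 := (hCψ.orth_iff hD hDy hB hxy hvy).2 ⟨hvx.2.1.symm, hvx.2.2⟩
    have h0' := (C.chart.orth_iff hD C.sub hB hy hvx).2 ⟨hvy.2.1.symm, hvy.2.2⟩
    have e := (hLs v hv').map (LinearMap.ker (B (π y))).subtype
    simp only [Submodule.subtype_apply, proj_fix _ h0'] at e
    have e' := e.map (LinearMap.inr (ZMod 3) (ZMod 3) V)
    rw [hj, h0, neg_zero]
    exact e'

end Cfsg.Lib.Fischer.Thm.Refl
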