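import Cfsg.Agent.Lib.Fischer.Thm.Refl.Core
import Cfsg.Agent.Lib.Fischer.Thm.Refl.Graph

/-!
# The signs of the singular vectors

Two members with non-orthogonal vectors have a common neighbour in `perp D x`, whose chart fixes the product
of their signs; so signs exist, and they follow the reflections.
-/

set_option autoImplicit false
set_option linter.unusedSectionVars false
set_option linter.unusedSimpArgs false
set_option linter.unusedVariables false

namespace Cfsg.Lib.Fischer.Thm.Refl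

open Cfsg.Lib.Fischer

variable {V : Type*} [AddCommGroup V] [Module (ZMod 3) V] [Module.Finite (ZMod 3) V]
  {B : LinearMap.BilinForm (ZMod 3) V} {G : Type*} [Group G] [Finite G] {D : Set G} {x : G} {π : G → V}
  (C : Ctx D x B π)

/-- A choice of the singular vector of each member not commuting with `x`. -/
structure Lift (C : Ctx D x B π) (σ : G → V) : Prop where
  sing : ∀ d ∈ off D x, IsSing B (σ d)
  comm : ∀ d ∈ off D x, ∀ v ∈ perp D x, Commute d v ↔ B (π v) (σ d) = 0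
  sim : ∀ d ∈ off D x, ∀ v ∈ perp D x, Commute d v → Sim (uy C v d) (σ d)

/-- A choice with signs agreeing with commutation. -/
structure Signed (C : Ctx D x B π) (σ : G → V) : Prop extends Lift C σ where
  edge : ∀ d ∈ off D x, ∀ d' ∈ off D x, B (σ d) (σ d') ≠ 0 → (Commute d d' ↔ B (σ d) (σ d') = 1)

include C

theorem Ctx.exists_lift : ∃ τ, Lift C τ := by
  classical
  choose τ h1 h2 h3 using fun d (hd : d ∈ off D x) => C.exists_vector hd
  refine ⟨fun d => if h : d ∈ off D x then τ d h else 0, ⟨fun d hd => ?_, fun d hd => ?_, fun d hd => ?_⟩⟩ <;>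
    simp only [dif_pos hd]
  exacts [h1 d hd, h2 d hd, h3 d hd]

variable {τ : G → V} (T : Lift C τ)

include T

theorem Lift.common {d d' : G} (hd : d ∈ off D x) (hd' : d' ∈ off D x) (h : B (τ d) (τ d') ≠ 0) :
    ∃ y ∈ perp D x, Commute d y ∧ Commute d' y := by
  obtain ⟨a, ha, h1, h2⟩ := exists_unit_perp_two C.form (by have := C.dim; omega) (T.sing d hd).2 (T.sing d' hd').2 h
  obtain ⟨y, hy, hya⟩ := C.chart.surj a ha
  exact ⟨y, hy, (T.comm d hd y hy).2 (by rw [hya.orth, C.form.symm]; exact h1),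
    (T.comm d' hd' y hy).2 (by rw [hya.orth, C.form.symm]; exact h2)⟩

/-- In a chart the vectors are those chosen, up to signs which are seen by commutation. -/
theorem Lift.signs {d d' y : G} (hd : d ∈ off D x) (hd' : d' ∈ off D x) (hy : y ∈ perp D x) (hdy : Commute d y)
    (hd'y : Commute d' y) :
    ∃ η η' : ZMod 3, η ≠ 0 ∧ η' ≠ 0 ∧ uy C y d = η • τ d ∧ uy C y d' = η' • τ d' ∧
      (B (τ d) (τ d') ≠ 0 → (Commute d d' ↔ η * η' * B (τ d) (τ d') = 1)) := by
  have key : ∀ {a b : V}, Sim a b → ∃ η : ZMod 3, η ≠ 0 ∧ a = η • b := fun {a b} h => by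
    rcases h with h | h
    · exact ⟨1, one_ne_zero, by rw [h, one_smul]⟩
    · exact ⟨-1, neg_ne_zero.2 one_ne_zero, by rw [h, neg_one_smul]⟩
  obtain ⟨η, hη, e⟩ := key (T.sim d hd y hy hdy)
  obtain ⟨η', hη', e'⟩ := key (T.sim d' hd' y hy hd'y)
  refine ⟨η, η', hη, hη', e, e', fun hne => ?_⟩
  have h1 : B (uy C y d) (uy C y d') = η * η' * B (τ d) (τ d') := by
    rw [e, e', map_smul, map_smul, LinearMap.smul_apply, smul_eq_mul, smul_eq_mul]; ring
  rw [C.uy_commute_off hy hd (C.perp_of_common hy hd hdy) hd' (C.perp_of_common hy hd' hd'y)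
    (by rw [h1]; exact mul_ne_zero (mul_ne_zero hη hη') hne), h1]

theorem Lift.exists_off {u : V} (hu : IsSing B u) : ∃ d ∈ off D x, Sim (τ d) u := by
  obtain ⟨a, ha, hau⟩ := exists_unit_perp C.form (by have := C.dim; omega) hu
  obtain ⟨y, hy, hya⟩ := C.chart.surj a ha
  obtain ⟨d, hd, hdy, e⟩ := C.uy_surj hy hu (by rw [hya.orth, C.form.symm]; exact hau)
  exact ⟨d, hd, e ▸ (T.sim d hd y hy hdy.2.2.symm).symm⟩

theorem Lift.balanced :
    Balanced (fun d d' : ↥(off D x) => B (τ d) (τ d') ≠ 0)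
      (fun d d' : ↥(off D x) => open Classical in
        (if Commute (d : G) (d' : G) then (1 : ZMod 3) else -1) * B (τ d) (τ d')) := by
  classical
  have hB := C.form
  have hw : ∀ {d d' : ↥(off D x)} {η η' : ZMod 3}, η ≠ 0 → η' ≠ 0 → B (τ d) (τ d') ≠ 0 →
      (Commute (d : G) (d' : G) ↔ η * η' * B (τ d) (τ d') = 1) →
      (if Commute (d : G) (d' : G) then (1 : ZMod 3) else -1) * B (τ d) (τ d') = η * η' := by
    intro d d' η η' h1 h2 h3 h4
    by_cases hc : Commute (d : G) (d' : G)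
    · rw [if_pos hc]
      have h5 := h4.1 hc
      clear h4
      revert h1 h2 h3 h5
      generalize B (τ d) (τ d') = t
      revert η η' t
      decide
    · rw [if_neg hc]
      have h5 := fun e => hc (h4.2 e)
      clear h4
      revert h1 h2 h3 h5
      generalize B (τ d) (τ d') = t
      revert η η' t
      decide
  refine ⟨fun a b h e => h (by rwa [hB.symm]), fun a b _ => ?_, fun a b h => ?_, fun a b c hab hbc hac => ?_,
    fun a b => ?_, fun a b p p' hab h1 h2 h3 h4 => ?_, fun a b b' h1 h2 h3 => ?_⟩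
  · show _ * _ = _ * _
    rw [hB.symm (τ a)]
    simp only [show Commute (a : G) b ↔ Commute (b : G) a from ⟨Commute.symm, Commute.symm⟩]
  · show _ * _ * (_ * _) = (1 : ZMod 3)
    rw [mul_mul_mul_comm, z3_sq h, mul_one]
    split_ifs <;> decide
  · obtain ⟨v, hv, hu1, hu2, hu3⟩ := exists_unit_perp_three hB C.dim (T.sing a a.2).2 (T.sing b b.2).2
      (T.sing c c.2).2 hab hbc hac
    obtain ⟨y, hy, hyv⟩ := C.chart.surj v hv
    have hc1 : Commute (a : G) y := (T.comm a a.2 y hy).2 (by rw [hyv.orth, hB.symm]; exact hu1)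
    have hc2 : Commute (b : G) y := (T.comm b b.2 y hy).2 (by rw [hyv.orth, hB.symm]; exact hu2)
    have hc3 : Commute (c : G) y := (T.comm c c.2 y hy).2 (by rw [hyv.orth, hB.symm]; exact hu3)
    obtain ⟨ηa, ηb, ha, hb, ea, eb, h12⟩ := T.signs C a.2 b.2 hy hc1 hc2
    obtain ⟨ηb', ηc, hb', hc, eb', ec, h23⟩ := T.signs C b.2 c.2 hy hc2 hc3
    obtain ⟨ηa', ηc', ha', hc', ea', ec', h13⟩ := T.signs C a.2 c.2 hy hc1 hc3
    obtain rfl : ηb' = ηb := smul_left_injective (ZMod 3) (T.sing b b.2).1 (eb'.symm.trans eb)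
    obtain rfl : ηa' = ηa := smul_left_injective (ZMod 3) (T.sing a a.2).1 (ea'.symm.trans ea)
    obtain rfl : ηc' = ηc := smul_left_injective (ZMod 3) (T.sing c c.2).1 (ec'.symm.trans ec)
    rw [hw ha hb hab (h12 hab), hw hb' hc hbc (h23 hbc), hw ha' hc' hac (h13 hac)]
    linear_combination (ηa' * ηc') * z3_sq hb'
  · obtain ⟨z, hz, h1, h2⟩ :=
      exists_sing_meet_two hB (by have := C.dim; omega) (T.sing a a.2) (T.sing b b.2)
    obtain ⟨p, hp, hpz⟩ := T.exists_off C hz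
    refine ⟨⟨p, hp⟩, fun e => h1 ?_, fun e => h2 ?_⟩ <;>
      · rw [hB.symm] at e ⊢; exact hpz.orth.1 e
  · have lift : ∀ z, Relation.ReflTransGen
        (fun z z' => B z z' ≠ 0 ∧ (IsSing B z' ∧ B (τ a) z' ≠ 0 ∧ B (τ b) z' ≠ 0)) (τ p) z →
        ∀ r : ↥(off D x), B (τ a) (τ r) ≠ 0 → B (τ b) (τ r) ≠ 0 → B z (τ r) ≠ 0 →
        Relation.ReflTransGen (fun q q' : ↥(off D x) => B (τ q) (τ q') ≠ 0 ∧ B (τ a) (τ q) ≠ 0 ∧ B (τ b) (τ q) ≠ 0 ∧
          B (τ a) (τ q') ≠ 0 ∧ B (τ b) (τ q') ≠ 0) p r := by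
      intro z hz
      induction hz with
      | refl => exact fun r hra hrb hpr => Relation.ReflTransGen.single ⟨hpr, h1, h2, hra, hrb⟩
      | @tail z₀ z₁ _ hzz ih =>
        intro r hra hrb hzr
        obtain ⟨hzz', hz₁, hz₁a, hz₁b⟩ := hzz
        obtain ⟨q, hq, hqz⟩ := T.exists_off C hz₁
        have qa : B (τ a) (τ q) ≠ 0 := fun e => hz₁a (by rw [hB.symm] at e ⊢; exact hqz.orth.1 e)
        have qb : B (τ b) (τ q) ≠ 0 := fun e => hz₁b (by rw [hB.symm] at e ⊢; exact hqz.orth.1 e)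
        exact (ih ⟨q, hq⟩ qa qb fun e => hzz' (by rw [hB.symm] at e ⊢; exact hqz.orth.1 e)).trans
          (Relation.ReflTransGen.single ⟨fun e => hzr (hqz.orth.1 e), qa, qb, hra, hrb⟩)
    have hn := T.sing p' p'.2
    obtain ⟨t, ht, htp⟩ : ∃ t, Sim t (τ p') ∧ t ≠ τ p := by
      by_cases e : τ (p' : G) = τ p
      · exact ⟨-τ p', Or.inr rfl, fun e' => hn.1 (eq_zero_of_eq_neg (e.trans e'.symm))⟩
      · exact ⟨τ p', Or.inl rfl, e⟩
    have hts : IsSing B t := by
      rcases ht with rfl | rfl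
      · exact hn
      · exact ⟨neg_ne_zero.2 hn.1, by rw [map_neg, map_neg, LinearMap.neg_apply, neg_neg]; exact hn.2⟩
    have hpath := sing_path hB (by have := C.dim; omega) (T.sing a a.2) (T.sing b b.2) (not_not.1 hab)
      (T.sing p p.2) hts h1 h2 (fun e => h3 (by rw [hB.symm] at e ⊢; exact ht.orth.1 e))
      (fun e => h4 (by rw [hB.symm] at e ⊢; exact ht.orth.1 e))
    rcases hpath.cases_tail with e | ⟨z, hz, hzt, -⟩
    · exact absurd e htp
    · exact lift z hz p' h3 h4 fun e => hzt (by rw [hB.symm] at e ⊢; exact ht.orth.2 e)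
  · obtain ⟨z, hz, e1, e2, e3⟩ := exists_sing_meet_three hB (T.sing a a.2) (T.sing b b.2) (T.sing b' b'.2)
      (not_not.1 h1) (not_not.1 h2) h3
    obtain ⟨p, hp, hpz⟩ := T.exists_off C hz
    exact ⟨⟨p, hp⟩, fun e => e1 (by rw [hB.symm] at e ⊢; exact hpz.orth.1 e),
      fun e => e2 (by rw [hB.symm] at e ⊢; exact hpz.orth.1 e),
      fun e => e3 (by rw [hB.symm] at e ⊢; exact hpz.orth.1 e)⟩

omit T

theorem Ctx.exists_signed : ∃ σ, Signed C σ := by
  classical
  obtain ⟨τ, T⟩ := C.exists_lift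
  obtain ⟨ε, hε, hw⟩ := (T.balanced C).exists_sign
  let σ : G → V := fun d => if h : d ∈ off D x then ε ⟨d, h⟩ • τ d else 0
  have hσ : ∀ d (hd : d ∈ off D x), σ d = ε ⟨d, hd⟩ • τ d := fun d hd => dif_pos hd
  have hε0 : ∀ a, ε a ≠ 0 := fun a e => by
    have := hε a; rw [e, zero_mul] at this; exact zero_ne_one this
  have hsim : ∀ d (hd : d ∈ off D x), Sim (σ d) (τ d) := fun d hd => hσ d hd ▸ sim_smul (hε0 _) _
  refine ⟨σ, ⟨⟨fun d hd => ⟨?_, ?_⟩, fun d hd v hv => ?_, fun d hd v hv h => ?_⟩, fun d hd d' hd' h => ?_⟩⟩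
  · rw [hσ d hd]; exact smul_ne_zero (hε0 _) (T.sing d hd).1
  · rw [hσ d hd, map_smul, map_smul, LinearMap.smul_apply, (T.sing d hd).2, smul_zero, smul_zero]
  · rw [T.comm d hd v hv, C.form.symm, C.form.symm (π v), (hsim d hd).orth]
  · exact (T.sim d hd v hv h).trans (hsim d hd).symm
  · rw [hσ d hd, hσ d' hd', map_smul, map_smul, LinearMap.smul_apply, smul_eq_mul, smul_eq_mul] at h ⊢
    have hne : B (τ d) (τ d') ≠ 0 := fun e => h (by rw [e, mul_zero, mul_zero])
    have h1 := hw ⟨d, hd⟩ ⟨d', hd'⟩ hne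
    rw [← mul_assoc, mul_comm (ε ⟨d', hd'⟩), h1]
    show _ ↔ (if Commute d d' then (1 : ZMod 3) else -1) * B (τ d) (τ d') * B (τ d) (τ d') = 1
    rw [mul_assoc, z3_sq hne, mul_one]
    by_cases hc : Commute d d'
    · simp [hc]
    · simp only [hc, if_false, false_iff]; decide

end Cfsg.Lib.Fischer.Thm.Refl
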