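import Mathlib

/-!
# Symmetric forms over the field with three elements and their unit vectors

A unit is a vector `a` with `B a a = 2`; its reflection is `v ↦ v - B a v • a`.
-/

set_option autoImplicit false
set_option linter.unusedSectionVars false
set_option linter.unusedVariables false
set_option linter.unnecessarySeqFocus false
set_option linter.unusedSimpArgs false

namespace Cfsg.Lib.Fischer.Thm.Refl

variable {V : Type*} [AddCommGroup V] [Module (ZMod 3) V]

/-- Equality up to sign. -/
def Sim (a b : V) : Prop := a = b ∨ a = -b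

omit [Module (ZMod 3) V] in
theorem Sim.rfl' (a : V) : Sim a a := Or.inl rfl

omit [Module (ZMod 3) V] in
theorem Sim.symm {a b : V} (h : Sim a b) : Sim b a := by
  rcases h with rfl | rfl
  · exact Or.inl rfl
  · exact Or.inr (neg_neg b).symm

omit [Module (ZMod 3) V] in
theorem Sim.trans {a b c : V} (h : Sim a b) (h' : Sim b c) : Sim a c := by
  rcases h with rfl | rfl <;> rcases h' with rfl | rfl
  · exact Or.inl rfl
  · exact Or.inr rfl
  · exact Or.inr rfl
  · exact Or.inl (neg_neg c)

theorem z3_sq {t : ZMod 3} (h : t ≠ 0) : t * t = 1 := by revert t; decide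

theorem z3_cases : ∀ t : ZMod 3, t = 0 ∨ t = 1 ∨ t = -1 := by decide

theorem z3_ne {t : ZMod 3} (h : t ≠ 0) : t = 1 ∨ t = -1 := (z3_cases t).resolve_left h

theorem sim_smul {t : ZMod 3} (h : t ≠ 0) (a : V) : Sim (t • a) a := by
  rcases z3_ne h with rfl | rfl
  · exact Or.inl (one_smul _ _)
  · exact Or.inr (neg_one_smul _ _)

theorem eq_zero_of_eq_neg {a : V} (h : a = -a) : a = 0 := by
  have h2 : (2 : ZMod 3) • a = 0 := by rw [two_smul]; nth_rw 1 [h]; exact neg_add_cancel a
  calc a = ((2 : ZMod 3) * 2) • a := by rw [show (2 : ZMod 3) * 2 = 1 by decide, one_smul]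
    _ = 0 := by rw [mul_smul, h2, smul_zero]

variable (B : LinearMap.BilinForm (ZMod 3) V)

/-- A non-degenerate symmetric form. -/
structure Form : Prop where
  symm : ∀ u v, B u v = B v u
  nondeg : ∀ v, (∀ w, B v w = 0) → v = 0

/-- A unit. -/
def IsUnitVec (a : V) : Prop := B a a = 2

/-- A non-zero singular vector. -/
def IsSing (u : V) : Prop := u ≠ 0 ∧ B u u = 0

/-- The reflection of a unit, as a linear map. -/
noncomputable def refl (a : V) : V →ₗ[ZMod 3] V := LinearMap.id - (B a).smulRight a

theorem refl_apply (a v : V) : refl B a v = v - B a v • a := rfl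

variable {B} (hB : Form B)
include hB

theorem unit_ne_zero {a : V} (ha : IsUnitVec B a) : a ≠ 0 := fun h => by
  rw [IsUnitVec, h, map_zero] at ha
  exact absurd ha (by decide)

omit hB in
theorem IsUnitVec.neg {a : V} (ha : IsUnitVec B a) : IsUnitVec B (-a) := by
  simp only [IsUnitVec, map_neg, LinearMap.neg_apply, neg_neg]; exact ha

omit hB in
theorem Sim.unit {a b : V} (h : Sim a b) (hb : IsUnitVec B b) : IsUnitVec B a := by
  rcases h with rfl | rfl
  · exact hb
  · exact hb.neg

omit hB in
theorem Sim.orth {a b x : V} (h : Sim a b) : B a x = 0 ↔ B b x = 0 := by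
  rcases h with rfl | rfl
  · rfl
  · rw [map_neg, LinearMap.neg_apply, neg_eq_zero]

omit hB in
theorem refl_sim {a b : V} (h : Sim a b) : refl B a = refl B b := by
  rcases h with rfl | rfl
  · rfl
  · refine LinearMap.ext fun v => ?_
    rw [refl_apply, refl_apply, map_neg, LinearMap.neg_apply, neg_smul, smul_neg, neg_neg]

omit hB in
theorem Sim.map {W : Type*} [AddCommGroup W] [Module (ZMod 3) W] (f : V →ₗ[ZMod 3] W) {a b : V}
    (h : Sim a b) : Sim (f a) (f b) := by
  rcases h with rfl | rfl
  · exact Or.inl rfl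
  · exact Or.inr (map_neg f b)

omit hB in
theorem refl_self {a : V} (ha : IsUnitVec B a) : refl B a a = -a := by
  rw [refl_apply, ha, two_smul]; abel

omit hB in
theorem refl_fix {a v : V} (h : B a v = 0) : refl B a v = v := by
  rw [refl_apply, h, zero_smul, sub_zero]

theorem refl_form {a : V} (ha : IsUnitVec B a) (x y : V) : B (refl B a x) (refl B a y) = B x y := by
  simp only [refl_apply, map_sub, LinearMap.sub_apply, map_smul, LinearMap.smul_apply, smul_eq_mul]
  rw [ha, hB.symm x a]
  have key : ∀ p q r : ZMod 3, r - q * p - p * (q - q * 2) = r := by decide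
  linear_combination key (B a x) (B a y) (B x y)

theorem refl_unit {a b : V} (ha : IsUnitVec B a) (hb : IsUnitVec B b) : IsUnitVec B (refl B a b) :=
  (refl_form hB ha b b).trans hb

omit hB in
theorem refl_refl {a : V} (ha : IsUnitVec B a) (v : V) : refl B a (refl B a v) = v := by
  rw [refl_apply B a v, map_sub, map_smul, refl_self ha, smul_neg, refl_apply B a v]
  abel

theorem refl_conj {a b : V} (ha : IsUnitVec B a) (x : V) :
    refl B a (refl B b x) = refl B (refl B a b) (refl B a x) := by
  rw [refl_apply B b x, refl_apply B (refl B a b), refl_form hB ha, map_sub, map_smul]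

/-- Two non-orthogonal reflections braid. -/
theorem refl_braid {a b : V} (ha : IsUnitVec B a) (hb : IsUnitVec B b) (h : B a b ≠ 0) :
    Sim (refl B a b) (refl B b a) := by
  rw [refl_apply, refl_apply, hB.symm b a]
  rcases z3_ne h with e' | e' <;> rw [e']
  · exact Or.inr (by simp only [one_smul]; abel)
  · exact Or.inl (by simp only [neg_smul, one_smul, sub_neg_eq_add]; abel)

theorem refl_braid_op {a b : V} (ha : IsUnitVec B a) (hb : IsUnitVec B b) (h : B a b ≠ 0) (x : V) :
    refl B a (refl B b (refl B a x)) = refl B b (refl B a (refl B b x)) := by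
  rw [refl_conj hB ha, refl_refl ha, refl_sim (refl_braid hB ha hb h), refl_conj hB hb (b := a) (refl B b x),
    refl_refl hb]

/-- A unit orthogonal to a unit but equal up to sign does not exist. -/
theorem not_sim_of_orth {a b : V} (ha : IsUnitVec B a) (h : B a b = 0) : ¬ Sim a b := by
  intro hs
  rw [IsUnitVec] at ha
  rcases hs with rfl | rfl
  · rw [h] at ha; exact absurd ha (by decide)
  · rw [map_neg, h, neg_zero] at ha; exact absurd ha (by decide)

theorem orth_of_refl_sim {a b : V} (ha : IsUnitVec B a) (h : Sim (refl B a b) b) :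
    B a b = 0 ∨ Sim a b := by
  by_cases h0 : B a b = 0
  · exact Or.inl h0
  refine Or.inr ?_
  rw [refl_apply] at h
  rcases h with h | h
  · exact absurd (smul_eq_zero.1 (sub_eq_self.1 h)) (by simp [h0, unit_ne_zero hB ha])
  · have h2 : B a b • a = (2 : ZMod 3) • b := by
      rw [two_smul, ← sub_eq_zero]
      calc B a b • a - (b + b) = -(b - B a b • a) - b := by abel
        _ = 0 := by rw [h]; abel
    refine (sim_smul h0 a).symm.trans ?_
    rw [h2]
    exact sim_smul (by decide) b

/-! ## Existence -/

variable [Module.Finite (ZMod 3) V]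

theorem exists_val {k : ℕ} (f : Fin k → V) (hf : LinearIndependent (ZMod 3) f) (a : Fin k → ZMod 3) :
    ∃ z, ∀ i, B (f i) z = a i := by
  let T : V →ₗ[ZMod 3] Fin k → ZMod 3 := LinearMap.pi fun i => B (f i)
  suffices h : LinearMap.range T = ⊤ by
    obtain ⟨z, hz⟩ := (LinearMap.range_eq_top.1 h) a
    exact ⟨z, fun i => congrFun hz i⟩
  by_contra h
  obtain ⟨φ, hφ, hT⟩ := Submodule.exists_dual_map_eq_bot_of_lt_top (lt_top_iff_ne_top.2 h) inferInstance
  refine hφ (LinearMap.ext fun w => ?_)
  have hsum : ∑ i, φ (Pi.single i 1) • f i = 0 := hB.nondeg _ fun z => by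
    have h1 : φ (T z) = 0 := by
      have : φ (T z) ∈ (LinearMap.range T).map φ := ⟨_, ⟨z, rfl⟩, rfl⟩
      rwa [hT, Submodule.mem_bot] at this
    rw [pi_eq_sum_univ' (T z)] at h1
    simp only [map_sum, map_smul, LinearMap.sum_apply, LinearMap.smul_apply, smul_eq_mul] at h1 ⊢
    rw [← h1]
    exact Finset.sum_congr rfl fun i _ => mul_comm _ _
  have h0 := Fintype.linearIndependent_iff.1 hf _ hsum
  rw [pi_eq_sum_univ' w, map_sum, LinearMap.zero_apply]
  exact Finset.sum_eq_zero fun i _ => by rw [map_smul, h0 i, smul_zero]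

/-- A family of mutually orthogonal non-singular vectors which is too small has a non-singular vector
orthogonal to it. -/
theorem exists_nonsing_perp {k : ℕ} (f : Fin k → V) (hk : k < Module.finrank (ZMod 3) V)
    (hf : ∀ i, B (f i) (f i) ≠ 0) (horth : ∀ i j, i ≠ j → B (f i) (f j) = 0) :
    ∃ z, (∀ i, B (f i) z = 0) ∧ B z z ≠ 0 := by
  classical
  by_contra hno
  push Not at hno
  have hproj : ∀ (x : V) (j : Fin k), B (f j) (x - ∑ i, (B (f i) x / B (f i) (f i)) • f i) = 0 := by
    intro x j
    rw [map_sub, map_sum, Finset.sum_eq_single j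
      (fun i _ hi => by rw [map_smul, horth j i (Ne.symm hi), smul_zero])
      (fun h => absurd (Finset.mem_univ j) h), map_smul, smul_eq_mul, div_mul_cancel₀ _ (hf j), sub_self]
  have hzero : ∀ z, (∀ i, B (f i) z = 0) → z = 0 := by
    intro z hz
    refine hB.nondeg z fun x => ?_
    obtain ⟨p, hp⟩ : ∃ p, p = x - ∑ i, (B (f i) x / B (f i) (f i)) • f i := ⟨_, rfl⟩
    have hp' : ∀ i, B (f i) p = 0 := fun i => hp ▸ hproj x i
    have hzp : B z p = 0 := by
      have h := hno (z + p) fun i => by rw [map_add, hz, hp', add_zero]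
      simp only [map_add, LinearMap.add_apply, hno z hz, hno p hp', hB.symm p z, zero_add, add_zero] at h
      have key : ∀ t : ZMod 3, t + t = 0 → t = 0 := by decide
      exact key _ h
    rw [hp, map_sub, map_sum, Finset.sum_eq_zero (fun i _ => by
      rw [map_smul, hB.symm z (f i), hz i, smul_zero]), sub_zero] at hzp
    exact hzp
  have htop : Submodule.span (ZMod 3) (Set.range f) = ⊤ := by
    refine eq_top_iff.mpr fun x _ => ?_
    rw [← sub_add_cancel x (∑ i, (B (f i) x / B (f i) (f i)) • f i), hzero _ (hproj x), zero_add]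
    exact Submodule.sum_mem _ fun i _ => Submodule.smul_mem _ _ (Submodule.subset_span (Set.mem_range_self i))
  have h := finrank_range_le_card (R := ZMod 3) f
  rw [Set.finrank, htop, finrank_top, Fintype.card_fin] at h
  omega

/-- Below a family of codimension at least two both non-zero norms occur. -/
theorem exists_norm_perp {k : ℕ} (f : Fin k → V) (hk : k + 2 ≤ Module.finrank (ZMod 3) V)
    (hf : ∀ i, B (f i) (f i) ≠ 0) (horth : ∀ i j, i ≠ j → B (f i) (f j) = 0) {t : ZMod 3} (ht : t ≠ 0) :
    ∃ z, (∀ i, B (f i) z = 0) ∧ B z z = t := by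
  obtain ⟨z, hz, hqz⟩ := exists_nonsing_perp hB f (by omega) hf horth
  obtain ⟨z', hz', hqz'⟩ := exists_nonsing_perp hB (Fin.snoc f z : Fin (k + 1) → V) (by omega)
    (fun i => by refine Fin.lastCases ?_ ?_ i <;> simp [hqz, hf])
    (fun i j => by
      refine Fin.lastCases ?_ ?_ i <;> refine Fin.lastCases ?_ ?_ j <;> simp
      · intro a _
        rw [hB.symm]
        exact hz a
      · exact fun a => hz a
      · exact fun a b h => horth _ _ h)
  have hzz' : B z z' = 0 := by simpa using hz' (Fin.last k)
  have hfz' : ∀ i, B (f i) z' = 0 := fun i => by simpa using hz' i.castSucc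
  have key : ∀ a b t : ZMod 3, a ≠ 0 → b ≠ 0 → t ≠ 0 → a = t ∨ b = t ∨ a + b = t := by decide
  rcases key _ _ _ hqz hqz' ht with h | h | h
  · exact ⟨z, hz, h⟩
  · exact ⟨z', hfz', h⟩
  · refine ⟨z + z', fun i => by rw [map_add, hz, hfz', add_zero], ?_⟩
    simp only [map_add, LinearMap.add_apply, hzz', hB.symm z' z, add_zero, zero_add]
    exact h

/-- A singular vector has a singular partner. -/
theorem exists_partner {u : V} (hu : IsSing B u) : ∃ f, B u f = 1 ∧ B f f = 0 := by
  obtain ⟨f, hf⟩ := exists_val hB ![u] (LinearIndependent.of_subsingleton (0 : Fin 1) (by simpa using hu.1))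
    ![1]
  have hf : B u f = 1 := by simpa using hf 0
  refine ⟨f + B f f • u, by rw [map_add, map_smul, hu.2, hf, smul_zero, add_zero], ?_⟩
  simp only [map_add, map_smul, LinearMap.add_apply, LinearMap.smul_apply, hu.2, hB.symm f u, hf, smul_eq_mul,
    mul_zero, mul_one, add_zero]
  have key : ∀ t : ZMod 3, t + t + t = 0 := by decide
  exact key _

/-- An orthogonal pair spanning the plane of two non-orthogonal singular vectors. -/
theorem plane_basis {u u' : V} (hu : B u u = 0) (hu' : B u' u' = 0) (h : B u u' ≠ 0) :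
    B (u + B u u' • u') (u + B u u' • u') = 2 ∧ B (u - B u u' • u') (u - B u u' • u') = 1 ∧
      B (u + B u u' • u') (u - B u u' • u') = 0 := by
  simp only [map_add, map_sub, map_smul, LinearMap.add_apply, LinearMap.sub_apply, LinearMap.smul_apply, hu, hu',
    hB.symm u' u, smul_eq_mul, mul_zero, add_zero, sub_zero, zero_add, zero_sub]
  revert h
  generalize B u u' = t
  revert t
  decide

omit hB in
theorem orth_of_plane {u u' v : V} {t : ZMod 3} (h1 : B (u + t • u') v = 0) (h2 : B (u - t • u') v = 0)
    (ht : t ≠ 0) : B u v = 0 ∧ B u' v = 0 := by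
  simp only [map_add, map_sub, map_smul, LinearMap.add_apply, LinearMap.sub_apply, LinearMap.smul_apply,
    smul_eq_mul] at h1 h2
  revert h1 h2 ht
  generalize B u v = p
  generalize B u' v = q
  revert t p q
  decide

/-- A unit orthogonal to two non-orthogonal singular vectors. -/
theorem exists_unit_perp_two {u u' : V} (hV : 4 ≤ Module.finrank (ZMod 3) V) (hu : B u u = 0)
    (hu' : B u' u' = 0) (h : B u u' ≠ 0) : ∃ y, IsUnitVec B y ∧ B u y = 0 ∧ B u' y = 0 := by
  obtain ⟨h1, h2, h3⟩ := plane_basis hB hu hu' h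
  obtain ⟨y, hy, hyy⟩ := exists_norm_perp hB ![u + B u u' • u', u - B u u' • u'] (by omega)
    (fun i => by fin_cases i <;> simp [-map_add, -map_sub, h1, h2] <;> decide)
    (fun i j hij => by
      fin_cases i <;> fin_cases j <;> simp [-map_add, -map_sub] at hij ⊢
      · exact h3
      · rw [hB.symm]; exact h3) (t := 2) (by decide)
  exact ⟨y, hyy, orth_of_plane (by simpa [-map_add, -map_sub] using hy 0)
    (by simpa [-map_add, -map_sub] using hy 1) h⟩

/-- A unit orthogonal to three pairwise non-orthogonal singular vectors. -/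
theorem exists_unit_perp_three {u u' u'' : V} (hV : 5 ≤ Module.finrank (ZMod 3) V) (hu : B u u = 0)
    (hu' : B u' u' = 0) (hu'' : B u'' u'' = 0) (h : B u u' ≠ 0) (h' : B u' u'' ≠ 0) (h'' : B u u'' ≠ 0) :
    ∃ y, IsUnitVec B y ∧ B u y = 0 ∧ B u' y = 0 ∧ B u'' y = 0 := by
  obtain ⟨h1, h2, h3⟩ := plane_basis hB hu hu' h
  set f₁ := u + B u u' • u'
  set f₂ := u - B u u' • u'
  set f₃ := u'' + B f₁ u'' • f₁ - B f₂ u'' • f₂ with hf₃
  have h13 : B f₁ f₃ = 0 := by
    simp only [hf₃, map_add, map_sub, map_smul, smul_eq_mul, h1, h3, mul_zero, sub_zero]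
    have key : ∀ t : ZMod 3, t + t * 2 = 0 := by decide
    exact key _
  have h23 : B f₂ f₃ = 0 := by
    simp only [hf₃, map_add, map_sub, map_smul, smul_eq_mul, h2, hB.symm f₂ f₁, h3, mul_zero, add_zero, mul_one,
      sub_self]
  have h33 : B f₃ f₃ ≠ 0 := by
    have e : B f₃ f₃ = B f₁ u'' * B f₁ u'' - B f₂ u'' * B f₂ u'' := by
      rw [show B f₃ f₃ = B u'' f₃ + B f₁ u'' * B f₁ f₃ - B f₂ u'' * B f₂ f₃ by
        nth_rw 1 [hf₃]
        simp only [map_add, map_sub, map_smul, LinearMap.add_apply, LinearMap.sub_apply, LinearMap.smul_apply,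
          smul_eq_mul], h13, h23]
      simp only [hf₃, map_add, map_sub, map_smul, smul_eq_mul, hu'', hB.symm u'' f₁, hB.symm u'' f₂, mul_zero,
        add_zero, sub_zero, zero_add]
    rw [e]
    simp only [f₁, f₂, map_add, map_sub, map_smul, LinearMap.add_apply, LinearMap.sub_apply, LinearMap.smul_apply,
      smul_eq_mul]
    revert h h' h''
    generalize B u u' = p
    generalize B u u'' = q
    generalize B u' u'' = r
    revert p q r
    decide
  obtain ⟨y, hy, hyy⟩ := exists_norm_perp hB ![f₁, f₂, f₃] (by omega)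
    (fun i => by fin_cases i <;> simp [-map_add, -map_sub, h1, h2, h33] <;> decide)
    (fun i j hij => by
      fin_cases i <;> fin_cases j <;> simp [-map_add, -map_sub] at hij ⊢
      all_goals first | exact h3 | exact h13 | exact h23 | (rw [hB.symm]; first | exact h3 | exact h13 | exact h23))
    (t := 2) (by decide)
  have hy1 : B f₁ y = 0 := by simpa using hy 0
  have hy2 : B f₂ y = 0 := by simpa using hy 1
  have hy3 : B f₃ y = 0 := by simpa using hy 2
  obtain ⟨ha, hb⟩ := orth_of_plane hy1 hy2 h
  refine ⟨y, hyy, ha, hb, ?_⟩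
  simpa only [hf₃, map_add, map_sub, map_smul, LinearMap.add_apply, LinearMap.sub_apply, LinearMap.smul_apply, hy1,
    hy2, smul_zero, add_zero, sub_zero] using hy3

/-- A unit orthogonal to a singular vector and a unit. -/
theorem exists_unit_perp_sing_unit {u v : V} (hV : 5 ≤ Module.finrank (ZMod 3) V) (hu : IsSing B u)
    (hv : IsUnitVec B v) : ∃ y, IsUnitVec B y ∧ B u y = 0 ∧ B v y = 0 := by
  by_cases h : B u v = 0
  · have hind : LinearIndependent (ZMod 3) ![u, v] := by
      rw [LinearIndependent.pair_iff]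
      intro s t hst
      have e := congrArg (B v) hst
      simp only [map_add, map_smul, map_zero, hB.symm v u, h, smul_eq_mul, mul_zero, zero_add,
        (show B v v = 2 from hv), mul_eq_zero] at e
      have ht : t = 0 := e.resolve_right (by decide)
      rw [ht, zero_smul, add_zero, smul_eq_zero] at hst
      exact ⟨hst.resolve_right hu.1, ht⟩
    obtain ⟨f, hf⟩ := exists_val hB ![u, v] hind ![1, 0]
    have hf0 : B u f = 1 := by simpa using hf 0
    have hf1 : B v f = 0 := by simpa using hf 1
    obtain ⟨g, hg, hgg⟩ : ∃ g, (B u g = 1 ∧ B v g = 0) ∧ B g g = 0 := by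
      refine ⟨f + B f f • u, ⟨by rw [map_add, map_smul, hu.2, hf0, smul_zero, add_zero],
        by rw [map_add, map_smul, hB.symm v u, h, hf1, smul_zero, add_zero]⟩, ?_⟩
      simp only [map_add, map_smul, LinearMap.add_apply, LinearMap.smul_apply, hu.2, hB.symm f u, hf0, smul_eq_mul,
        mul_zero, mul_one, add_zero]
      have key : ∀ t : ZMod 3, t + t + t = 0 := by decide
      exact key _
    obtain ⟨h1, h2, h3⟩ := plane_basis hB hu.2 hgg (hg.1 ▸ one_ne_zero)
    obtain ⟨y, hy, hyy⟩ := exists_norm_perp hB ![u + B u g • g, u - B u g • g, v] (by omega)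
      (fun i => by fin_cases i <;> simp [-map_add, -map_sub, h1, h2, (show B v v = 2 from hv)] <;> decide)
      (fun i j hij => by
        fin_cases i <;> fin_cases j <;> simp [-map_add, -map_sub] at hij ⊢
        all_goals first
          | exact h3
          | (rw [hB.symm]; exact h3)
          | simp [hg.1, hg.2, h, hB.symm v u, hB.symm g v]) (t := 2) (by decide)
    exact ⟨y, hyy, (orth_of_plane (by simpa [-map_add, -map_sub] using hy 0)
      (by simpa [-map_add, -map_sub] using hy 1) (hg.1 ▸ one_ne_zero)).1, by simpa using hy 2⟩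
  · set w := u + B u v • v with hw
    have hvw : B v w = 0 := by
      rw [hw, map_add, map_smul, hB.symm v u, hv, smul_eq_mul]
      have key : ∀ t : ZMod 3, t + t * 2 = 0 := by decide
      exact key _
    have hww : B w w ≠ 0 := by
      simp only [hw, map_add, map_smul, LinearMap.add_apply, LinearMap.smul_apply, hu.2, hB.symm v u,
        (show B v v = 2 from hv), smul_eq_mul]
      revert h
      generalize B u v = t
      revert t
      decide
    obtain ⟨y, hy, hyy⟩ := exists_norm_perp hB ![v, w] (by omega)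
      (fun i => by fin_cases i <;> simp [-map_add, hww, (show B v v = 2 from hv)] <;> decide)
      (fun i j hij => by
        fin_cases i <;> fin_cases j <;> simp [-map_add] at hij ⊢
        · exact hvw
        · rw [hB.symm]; exact hvw) (t := 2) (by decide)
    have hy0 : B v y = 0 := by simpa using hy 0
    have hy1 : B w y = 0 := by simpa [-map_add] using hy 1
    refine ⟨y, hyy, ?_, hy0⟩
    rwa [hw, map_add, map_smul, LinearMap.add_apply, LinearMap.smul_apply, hy0, smul_zero, add_zero] at hy1

/-- A unit orthogonal to a singular vector. -/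
theorem exists_unit_perp {u : V} (hV : 4 ≤ Module.finrank (ZMod 3) V) (hu : IsSing B u) :
    ∃ y, IsUnitVec B y ∧ B u y = 0 := by
  obtain ⟨f, hf, hff⟩ := exists_partner hB hu
  obtain ⟨y, h1, h2, -⟩ := exists_unit_perp_two hB hV hu.2 hff (hf ▸ one_ne_zero)
  exact ⟨y, h1, h2⟩

/-- A singular vector is determined up to sign by the units orthogonal to it. -/
theorem sing_eq {u u' : V} (hV : 4 ≤ Module.finrank (ZMod 3) V) (hu : IsSing B u) (hu' : IsSing B u')
    (h : ∀ a, IsUnitVec B a → B u a = 0 → B u' a = 0) : Sim u' u := by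
  obtain ⟨y, hy, huy⟩ := exists_unit_perp hB hV hu
  have hu'y := h y hy huy
  have h0 : B u' u = 0 := by
    have h1 := h (y + u) ?_ ?_
    · rwa [map_add, hu'y, zero_add] at h1
    · simp only [IsUnitVec, map_add, LinearMap.add_apply, hu.2, hB.symm y u, huy, add_zero]
      exact hy
    · rw [map_add, huy, hu.2, add_zero]
  by_contra hne
  have hind : LinearIndependent (ZMod 3) ![u, u'] := by
    rw [LinearIndependent.pair_iff]
    intro s t hst
    by_cases ht : t = 0
    · rw [ht, zero_smul, add_zero, smul_eq_zero] at hst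
      exact ⟨hst.resolve_right hu.1, ht⟩
    · exfalso
      by_cases hs : s = 0
      · rw [hs, zero_smul, zero_add, smul_eq_zero] at hst
        exact hst.elim ht hu'.1
      · apply hne
        refine (sim_smul ht u').symm.trans ?_
        rw [eq_neg_of_add_eq_zero_right hst, ← neg_smul]
        exact sim_smul (neg_ne_zero.2 hs) u
  obtain ⟨s, hs⟩ := exists_val hB ![u, u'] hind ![0, 1]
  have hs0 : B u s = 0 := by simpa using hs 0
  have hs1 : B u' s = 1 := by simpa using hs 1
  set k := 1 + B s s with hk
  have hunit : IsUnitVec B (s + k • u') := by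
    simp only [IsUnitVec, map_add, map_smul, LinearMap.add_apply, LinearMap.smul_apply, hu'.2, hB.symm s u', hs1,
      smul_eq_mul, mul_zero, mul_one, add_zero, hk]
    have key : ∀ p : ZMod 3, p + (1 + p) + (1 + p) = 2 := by decide
    exact key _
  have := h _ hunit (by rw [map_add, map_smul, hs0, hB.symm u u', h0, smul_zero, add_zero])
  rw [map_add, map_smul, hs1, hu'.2, smul_zero, add_zero] at this
  exact one_ne_zero this

/-- Two orthogonal units have a unit meeting both. -/
theorem exists_link {a b : V} (hV : 4 ≤ Module.finrank (ZMod 3) V) (ha : IsUnitVec B a) (hb : IsUnitVec B b)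
    (h : B a b = 0) : ∃ x, IsUnitVec B x ∧ B a x ≠ 0 ∧ B b x ≠ 0 := by
  obtain ⟨z, hz, hzz⟩ := exists_norm_perp hB ![a, b] (by omega)
    (fun i => by fin_cases i <;> simp [(show B a a = 2 from ha), (show B b b = 2 from hb)] <;> decide)
    (fun i j hij => by
      fin_cases i <;> fin_cases j <;> simp at hij ⊢
      · exact h
      · rw [hB.symm]; exact h) (t := 1) one_ne_zero
  have hz0 : B a z = 0 := by simpa using hz 0
  have hz1 : B b z = 0 := by simpa using hz 1
  refine ⟨a + b + z, ?_, ?_, ?_⟩
  · simp only [IsUnitVec, map_add, LinearMap.add_apply, (show B a a = 2 from ha), (show B b b = 2 from hb), hzz, h,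
      hB.symm b a, hB.symm z a, hB.symm z b, hz0, hz1, add_zero, zero_add]
    decide
  · simp only [map_add, (show B a a = 2 from ha), h, hz0, add_zero]; decide
  · simp only [map_add, (show B b b = 2 from hb), hB.symm b a, h, hz1, add_zero, zero_add]; decide

/-- The units span. -/
theorem eq_zero_of_orth_units {x : V} (hV : 3 ≤ Module.finrank (ZMod 3) V)
    (h : ∀ a, IsUnitVec B a → B x a = 0) : x = 0 := by
  by_contra hx
  rcases z3_cases (B x x) with e | e | e
  · obtain ⟨f, hf, hff⟩ := exists_partner hB (⟨hx, e⟩ : IsSing B x)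
    have h1 := h (x + f) (by
      simp only [IsUnitVec, map_add, LinearMap.add_apply, e, hff, hB.symm f x, hf]; decide)
    rw [map_add, e, hf, zero_add] at h1
    exact one_ne_zero h1
  · obtain ⟨z, hz, hzz⟩ := exists_norm_perp hB ![x] (by omega) (fun i => by fin_cases i; simp [e])
      (fun i j hij => absurd (Subsingleton.elim i j) hij) (t := 1) one_ne_zero
    have hxz : B x z = 0 := by simpa using hz 0
    have h1 := h (x + z) (by
      simp only [IsUnitVec, map_add, LinearMap.add_apply, e, hzz, hB.symm z x, hxz]; decide)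
    rw [map_add, e, hxz, add_zero] at h1
    exact one_ne_zero h1
  · have h1 := h x (by rw [IsUnitVec, e]; decide)
    rw [e] at h1
    exact absurd h1 (by decide)

end Cfsg.Lib.Fischer.Thm.Refl
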