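import Cfsg.Agent.Lib.Fischer.Thm.Refl.Local

/-!
# The singular vector of a member at a neighbour

A member `d` not commuting with `x` but with its neighbour `y` is `(1, uy d)` in the chart at `y`.
-/

set_option autoImplicit false
set_option linter.unusedSectionVars false
set_option linter.unusedSimpArgs false
set_option linter.unusedVariables false

namespace Cfsg.Lib.Fischer.Thm.Refl

open Cfsg.Lib.Fischer

variable {V : Type*} [AddCommGroup V] [Module (ZMod 3) V] [Module.Finite (ZMod 3) V]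
  {B : LinearMap.BilinForm (ZMod 3) V} {G : Type*} [Group G] [Finite G] {D : Set G} {x : G} {π : G → V}
  (C : Ctx D x B π)

include C

theorem Ctx.hD : Trans D := C.hF.toTrans

theorem Ctx.unit {v : G} (hv : v ∈ perp D x) : IsUnitVec B (π v) := C.chart.unit v hv

theorem Ctx.perp_symm {y : G} (hy : y ∈ perp D x) : x ∈ perp D y := ⟨C.hx, hy.2.1.symm, hy.2.2.symm⟩

theorem Ctx.off_ne {d : G} (hd : d ∈ off D x) : d ≠ x := fun h => hd.2 (h ▸ Commute.refl x)

theorem Ctx.off_not_perp {d : G} (hd : d ∈ off D x) : d ∉ perp D x := fun h => hd.2 h.2.2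

theorem Ctx.perp_of_common {y d : G} (hy : y ∈ perp D x) (hd : d ∈ off D x) (h : Commute d y) : d ∈ perp D y :=
  ⟨hd.1, fun e => hd.2 (e ▸ hy.2.2), h.symm⟩

theorem Ctx.orth_iff {v w : G} (hv : v ∈ perp D x) (hw : w ∈ perp D x) :
    B (π v) (π w) = 0 ↔ v ≠ w ∧ Commute v w :=
  C.chart.orth_iff C.hD C.sub C.form hv hw

theorem Ctx.mem_of_orth {v w : G} (hv : v ∈ perp D x) (hw : w ∈ perp D x) (h : B (π v) (π w) = 0) :
    w ∈ perp D v :=
  ⟨hw.1, ((C.orth_iff hv hw).1 h).1.symm, ((C.orth_iff hv hw).1 h).2⟩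

theorem Ctx.cj_off {v d : G} (hv : v ∈ perp D x) (hd : d ∈ off D x) : cj v d ∈ off D x :=
  ⟨cj_mem C.hD hv.1 hd.1, fun h => hd.2 ((commute_cj_of C.hD hv.1 hv.2.2.symm).1 h)⟩

theorem Ctx.cjx_off {d : G} (hd : d ∈ off D x) : cj x d ∈ off D x :=
  ⟨cj_mem C.hD C.hx hd.1, fun h => hd.2 ((commute_cj_of C.hD C.hx (Commute.refl x)).1 h)⟩

theorem Ctx.cjx_ne {d : G} (hd : d ∈ off D x) : cj x d ≠ d := fun h => hd.2 ((cj_eq_self C.hD C.hx).1 h)

omit C

open Classical in
/-- The chosen chart at `y`. -/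
noncomputable def hy' (C : Ctx D x B π) (y : G) : G → ZMod 3 × V :=
  if h : y ∈ perp D x then (exists_ychart C h).choose else fun _ => 0

include C

theorem Ctx.yspec {y : G} (hy : y ∈ perp D x) : YChart D x y B π (hy' C y) := by
  rw [hy', dif_pos hy]
  exact (exists_ychart C hy).choose_spec

omit C

/-- The singular vector of `d` in the chart at `y`. -/
noncomputable def uy (C : Ctx D x B π) (y d : G) : V := (hy' C y d).1 • (hy' C y d).2

include C

variable {y d : G}

theorem Ctx.fst_ne (hy : y ∈ perp D x) (hd : d ∈ off D x) (hdy : d ∈ perp D y) : (hy' C y d).1 ≠ 0 := fun h0 => by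
  have Y := C.yspec hy
  refine hd.2 ((Y.comm x (C.perp_symm hy) d hdy (C.off_ne hd).symm).2 ?_)
  rw [Y.base.orth, bigForm_apply, h0, map_zero, LinearMap.zero_apply, mul_zero, add_zero]

theorem Ctx.uy_sim (hy : y ∈ perp D x) (hd : d ∈ off D x) (hdy : d ∈ perp D y) :
    Sim (hy' C y d) ((1 : ZMod 3), uy C y d) := by
  have h0 := C.fst_ne hy hd hdy
  have e : ((1 : ZMod 3), uy C y d) = (hy' C y d).1 • hy' C y d := by
    rw [uy]
    exact Prod.ext (z3_sq h0).symm rfl
  rw [e]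
  exact (sim_smul h0 _).symm

theorem Ctx.uy_of_sim {u : V} (h : Sim (hy' C y d) ((1 : ZMod 3), u)) : uy C y d = u := by
  rcases h with h | h <;> rw [uy, h]
  · exact one_smul _ _
  · show -(1 : ZMod 3) • -u = u
    rw [neg_smul, one_smul, neg_neg]

theorem Ctx.uy_orth (hy : y ∈ perp D x) (hd : d ∈ off D x) (hdy : d ∈ perp D y) : B (π y) (uy C y d) = 0 := by
  rw [uy, map_smul, (C.yspec hy).orth d hdy, smul_zero]

theorem Ctx.uy_sing (hy : y ∈ perp D x) (hd : d ∈ off D x) (hdy : d ∈ perp D y) : IsSing B (uy C y d) := by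
  have Y := C.yspec hy
  have hs := C.uy_sim hy hd hdy
  refine ⟨fun h0 => C.off_ne hd (Y.inj d hdy x (C.perp_symm hy) ?_), ?_⟩
  · rw [h0] at hs
    exact hs.trans Y.base.symm
  · have h1 : bigForm B ((1 : ZMod 3), uy C y d) ((1 : ZMod 3), uy C y d) = 2 := hs.symm.unit (Y.unit d hdy)
    rw [bigForm_apply, mul_one, mul_one] at h1
    exact (add_eq_left).1 h1

theorem Ctx.uy_inj (hy : y ∈ perp D x) {d' : G} (hd : d ∈ off D x) (hdy : d ∈ perp D y) (hd' : d' ∈ off D x)
    (hdy' : d' ∈ perp D y) (h : uy C y d = uy C y d') : d = d' :=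
  (C.yspec hy).inj d hdy d' hdy' ((C.uy_sim hy hd hdy).trans (h ▸ (C.uy_sim hy hd' hdy').symm))

theorem Ctx.cjx_perp (hy : y ∈ perp D x) (hdy : d ∈ perp D y) : cj x d ∈ perp D y :=
  ((C.yspec hy).op x (C.perp_symm hy) d hdy).1

theorem Ctx.uy_cjx (hy : y ∈ perp D x) (hd : d ∈ off D x) (hdy : d ∈ perp D y) :
    uy C y (cj x d) = -uy C y d := by
  have Y := C.yspec hy
  apply C.uy_of_sim
  refine ((Y.op x (C.perp_symm hy) d hdy).2).trans ?_
  rw [refl_sim Y.base]
  refine ((C.uy_sim hy hd hdy).map (refl (bigForm B) ((1 : ZMod 3), (0 : V)))).trans (Or.inr ?_)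
  rw [refl_apply, bigForm_apply, map_zero, LinearMap.zero_apply]
  refine Prod.ext ?_ ?_
  · show (1 : ZMod 3) - (2 * 1 * 1 + 0) * 1 = -1
    decide
  · show uy C y d - (2 * (1 : ZMod 3) * 1 + 0) • (0 : V) = - -uy C y d
    rw [smul_zero, sub_zero, neg_neg]

/-- Two members with the same vector differ at most by `x`. -/
theorem Ctx.uy_fibre (hy : y ∈ perp D x) {d' : G} (hd : d ∈ off D x) (hdy : d ∈ perp D y) (hd' : d' ∈ off D x)
    (hdy' : d' ∈ perp D y) (h : Sim (uy C y d') (uy C y d)) : d' = d ∨ d' = cj x d := by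
  rcases h with h | h
  · exact Or.inl (C.uy_inj hy hd' hdy' hd hdy h)
  · exact Or.inr (C.uy_inj hy hd' hdy' (C.cjx_off hd) (C.cjx_perp hy hdy) (h.trans (C.uy_cjx hy hd hdy).symm))

theorem Ctx.uy_surj (hy : y ∈ perp D x) {u : V} (hu : IsSing B u) (huy : B (π y) u = 0) :
    ∃ d, d ∈ off D x ∧ d ∈ perp D y ∧ uy C y d = u := by
  have Y := C.yspec hy
  have hunit : IsUnitVec (bigForm B) ((1 : ZMod 3), u) := by
    rw [IsUnitVec, bigForm_apply, hu.2, mul_one, mul_one, add_zero]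
  obtain ⟨d, hd, hs⟩ := Y.surj _ hunit huy
  have hne : x ≠ d := fun e => hu.1 (by
    subst e
    rcases Y.base.symm.trans hs with h | h
    · exact (Prod.ext_iff.1 h).2.symm
    · exact neg_eq_zero.1 (Prod.ext_iff.1 h).2.symm)
  refine ⟨d, ⟨hd.1, fun hc => ?_⟩, hd, C.uy_of_sim hs⟩
  have h1 := (Y.comm x (C.perp_symm hy) d hd hne).1 hc
  rw [Y.base.orth, (bigForm_form C.form).symm, hs.orth, bigForm_apply, map_zero] at h1
  exact absurd h1 (show ¬ ((2 : ZMod 3) * 1 * 1 + 0 = 0) by decide)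

/-- A neighbour of `x` and `y` commutes with `d` exactly when orthogonal to its vector. -/
theorem Ctx.uy_commute (hy : y ∈ perp D x) (hd : d ∈ off D x) (hdy : d ∈ perp D y) {v : G} (hv : v ∈ perp D x)
    (hvy : v ∈ perp D y) : Commute v d ↔ B (π v) (uy C y d) = 0 := by
  have Y := C.yspec hy
  rw [Y.comm v hvy d hdy fun e => C.off_not_perp hd (e ▸ hv), (Y.ext v hv hvy).orth,
    (bigForm_form C.form).symm, (C.uy_sim hy hd hdy).orth, bigForm_apply, mul_zero, zero_add, C.form.symm]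

theorem Ctx.uy_commute_off (hy : y ∈ perp D x) (hd : d ∈ off D x) (hdy : d ∈ perp D y) {d' : G} (hd' : d' ∈ off D x)
    (hdy' : d' ∈ perp D y) (h : B (uy C y d) (uy C y d') ≠ 0) :
    Commute d d' ↔ B (uy C y d) (uy C y d') = 1 := by
  have Y := C.yspec hy
  rw [Y.comm d hdy d' hdy' fun e => h (e ▸ (C.uy_sing hy hd hdy).2), (C.uy_sim hy hd hdy).orth,
    (bigForm_form C.form).symm, (C.uy_sim hy hd' hdy').orth, bigForm_apply, mul_one, mul_one, C.form.symm]
  revert h
  generalize B (uy C y d) (uy C y d') = t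
  revert t
  decide

theorem Ctx.uy_third (hy : y ∈ perp D x) (hd : d ∈ off D x) (hdy : d ∈ perp D y) {d' : G} (hd' : d' ∈ off D x)
    (hdy' : d' ∈ perp D y) (h : B (uy C y d) (uy C y d') = -1) :
    cj d d' ∈ perp D x ∧ Sim (π (cj d d')) (uy C y d' - uy C y d) := by
  have Y := C.yspec hy
  obtain ⟨hm, hs⟩ := Y.op d hdy d' hdy'
  rw [refl_sim (C.uy_sim hy hd hdy)] at hs
  have hs' := hs.trans ((C.uy_sim hy hd' hdy').map (refl (bigForm B) ((1 : ZMod 3), uy C y d)))
  have e : refl (bigForm B) ((1 : ZMod 3), uy C y d) ((1 : ZMod 3), uy C y d') =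
      ((0 : ZMod 3), uy C y d' - uy C y d) := by
    rw [refl_apply, bigForm_apply, h]
    refine Prod.ext ?_ ?_
    · show (1 : ZMod 3) - (2 * 1 * 1 + -1) * 1 = 0
      decide
    · show uy C y d' - (2 * (1 : ZMod 3) * 1 + -1) • uy C y d = uy C y d' - uy C y d
      rw [show (2 * (1 : ZMod 3) * 1 + -1) = 1 by decide, one_smul]
  rw [e] at hs'
  have hne : x ≠ cj d d' := fun e' => by
    rw [← e'] at hs'
    rcases Y.base.symm.trans hs' with h' | h'
    · exact absurd (Prod.ext_iff.1 h').1 (show ¬ ((1 : ZMod 3) = 0) by decide)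
    · exact absurd (Prod.ext_iff.1 h').1 (show ¬ ((1 : ZMod 3) = -0) by decide)
  have hc : Commute x (cj d d') := (Y.comm x (C.perp_symm hy) _ hm hne).2 (by
    rw [Y.base.orth, (bigForm_form C.form).symm, hs'.orth, bigForm_apply, map_zero]
    show (2 : ZMod 3) * 0 * 1 + 0 = 0
    decide)
  have hmx : cj d d' ∈ perp D x := ⟨hm.1, hne.symm, hc⟩
  refine ⟨hmx, ?_⟩
  have := ((Y.ext _ hmx hm).symm.trans hs').map (LinearMap.snd (ZMod 3) (ZMod 3) V)
  simpa using this

/-- The vectors follow the reflections of neighbours. -/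
theorem Ctx.uy_equiv (hy : y ∈ perp D x) (hd : d ∈ off D x) (hdy : d ∈ perp D y) {v : G} (hv : v ∈ perp D x) :
    cj v d ∈ perp D (cj v y) ∧ Sim (uy C (cj v y) (cj v d)) (refl B (π v) (uy C y d)) := by
  have hD := C.hD
  have hB := C.form
  obtain ⟨hy', hys⟩ := C.chart.op v hv y hy
  have hd' := C.cj_off hv hd
  have hdy' : cj v d ∈ perp D (cj v y) :=
    C.perp_of_common hy' hd' ((commute_cj hD hv.1).2 hdy.2.2.symm)
  refine ⟨hdy', ?_⟩
  have hu := C.uy_sing hy hd hdy
  have hua := C.uy_orth hy hd hdy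
  have hu' := C.uy_sing hy' hd' hdy'
  have hu'a := C.uy_orth hy' hd' hdy'
  have hr : B (π (cj v y)) (refl B (π v) (uy C y d)) = 0 := by
    rw [hys.orth, refl_form hB (C.unit hv)]; exact hua
  have hrs : IsSing B (refl B (π v) (uy C y d)) := by
    refine ⟨fun h0 => hu.1 ?_, by rw [refl_form hB (C.unit hv)]; exact hu.2⟩
    rw [← refl_refl (C.unit hv) (uy C y d), h0, map_zero]
  have key := sing_eq (kerForm_form hB (C.unit hy')) (finrank_ker (by have := C.dim; omega) _)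
    (u := ⟨_, LinearMap.mem_ker.2 hr⟩) (u' := ⟨_, LinearMap.mem_ker.2 hu'a⟩)
    ⟨fun e => hrs.1 (congrArg Subtype.val e), hrs.2⟩ ⟨fun e => hu'.1 (congrArg Subtype.val e), hu'.2⟩ ?_
  · simpa using key.map (LinearMap.ker (B (π (cj v y)))).subtype
  intro a ha hau
  rw [kerForm_apply] at hau ⊢
  rw [IsUnitVec, kerForm_apply] at ha
  obtain ⟨p, hp, hps⟩ := C.chart.surj (refl B (π v) (a : V)) (refl_unit hB (C.unit hv) ha)
  have hya : B (π y) (refl B (π v) (a : V)) = 0 := by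
    have e := LinearMap.mem_ker.1 a.2
    rw [hys.orth, ← refl_form hB (C.unit hv), refl_refl (C.unit hv)] at e
    exact e
  have hpy : p ∈ perp D y := C.mem_of_orth hy hp (by rw [hB.symm, hps.orth, hB.symm]; exact hya)
  have hpd : Commute p d := (C.uy_commute hy hd hdy hp hpy).2 (by
    rw [hps.orth, ← refl_form hB (C.unit hv), refl_refl (C.unit hv), hB.symm]; exact hau)
  obtain ⟨hq, hqs⟩ := C.chart.op v hv p hp
  have hqa : Sim (π (cj v p)) (a : V) := by
    have := hqs.trans (hps.map (refl B (π v)))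
    rwa [refl_refl (C.unit hv)] at this
  have hqy : cj v p ∈ perp D (cj v y) :=
    C.mem_of_orth hy' hq (by rw [hB.symm, hqa.orth, hB.symm]; exact LinearMap.mem_ker.1 a.2)
  have := (C.uy_commute hy' hd' hdy' hq hqy).1 ((commute_cj hD hv.1).2 hpd)
  rwa [hqa.orth, hB.symm] at this

end Cfsg.Lib.Fischer.Thm.Refl
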